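import Cfsg.Agent.Lib.SolvableTransitive.Linear
import Cfsg.Agent.Lib.Zsigmondy.Basic
import Cfsg.Agent.Lib.FTConsumers.Hyp
import Cfsg.Agent.Lib.ThreeInvol.Reduce
import Cfsg.Agent.Lib.Frobenius.SolvableAut
import Cfsg.Agent.Lib.CharInt.Burnside
import Mathlib

/-!
# The normalizer of a transitive linear group over `F₂`

`isSolvable_of_normalizes`: a group normalising a group transitive on the nonzero vectors of a finite
`F₂`-space and one of its Sylow 2-subgroups is solvable (given the odd order theorem).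
-/

set_option autoImplicit false
set_option linter.style.haveILetI false

namespace Cfsg.Agent.OutSolvable

open scoped Classical IsMulCommutative

universe u

variable {V : Type u} [AddCommGroup V] [Module (ZMod 2) V] [Finite V]

theorem finite_equiv : Finite (V ≃ₗ[ZMod 2] V) :=
  Finite.of_injective (fun f => (f : V → V)) DFunLike.coe_injective

theorem card_equiv_six (h : Module.finrank (ZMod 2) V = 6) :
    Nat.card (V ≃ₗ[ZMod 2] V) = 2 ^ 15 * 3 ^ 4 * 5 * 7 ^ 2 * 31 := by
  let b := Module.finBasisOfFinrankEq (ZMod 2) V h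
  let e : (V ≃ₗ[ZMod 2] V) ≃ GL (Fin 6) (ZMod 2) :=
    (LinearMap.GeneralLinearGroup.generalLinearEquiv (ZMod 2) V).symm.toEquiv.trans
      (Units.mapEquiv (LinearMap.toMatrixAlgEquiv b).toMulEquiv).toEquiv
  rw [Nat.card_congr e, Matrix.card_GL_field]
  simp [Fin.prod_univ_six]

theorem card_mul_relIndex' {G : Type*} [Group G] {R X : Subgroup G} (h : R ≤ X) :
    Nat.card R * R.relIndex X = Nat.card X := by
  rw [← Subgroup.relIndex_bot_left, Subgroup.relIndex_mul_relIndex _ _ _ bot_le h, Subgroup.relIndex_bot_left]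

/-- The vectors of a subspace invariant under a Sylow subgroup of a transitive group. -/
theorem dvd_card_sub_one (X : Subgroup (V ≃ₗ[ZMod 2] V))
    (htrans : ∀ a b : V, a ≠ 0 → b ≠ 0 → ∃ x ∈ X, x a = b)
    {r e : ℕ} [Fact r.Prime] (hq : r ^ e ∣ Nat.card V - 1) {R : Subgroup (V ≃ₗ[ZMod 2] V)}
    (hRX : R ≤ X) (hR : IsPGroup r R) (hidx : ¬ r ∣ R.relIndex X)
    (U : Submodule (ZMod 2) V) (hU : ∀ x ∈ R, ∀ u ∈ U, x u ∈ U) : r ^ e ∣ Nat.card U - 1 := by
  haveI := finite_equiv (V := V)
  letI : MulAction ↥R {u : U // u ≠ 0} :=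
    { smul := fun x u => ⟨⟨x.1 u.1.1, hU x.1 x.2 u.1.1 u.1.2⟩, fun h => u.2 (Subtype.ext (by
        have := congrArg Subtype.val h
        simpa using this))⟩
      one_smul := fun u => Subtype.ext (Subtype.ext rfl)
      mul_smul := fun x y u => Subtype.ext (Subtype.ext rfl) }
  letI : MulAction ↥X {v : V // v ≠ 0} :=
    { smul := fun x v => ⟨x.1 v.1, fun h => v.2 (by simpa using h)⟩
      one_smul := fun u => Subtype.ext rfl
      mul_smul := fun x y u => Subtype.ext rfl }
  have horb : ∀ u : {u : U // u ≠ 0}, r ^ e ∣ Nat.card (MulAction.orbit ↥R u) := by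
    intro u
    let v : {v : V // v ≠ 0} := ⟨u.1.1, fun h => u.2 (Subtype.ext h)⟩
    have hXorb : MulAction.orbit ↥X v = Set.univ := by
      refine Set.eq_univ_of_forall fun w => ?_
      obtain ⟨x, hx, hxv⟩ := htrans v.1 w.1 v.2 w.2
      exact ⟨⟨x, hx⟩, Subtype.ext hxv⟩
    have hX : (Nat.card V - 1) * Nat.card (MulAction.stabilizer ↥X v) = Nat.card X := by
      rw [← Subgroup.index_mul_card (MulAction.stabilizer ↥X v), MulAction.index_stabilizer, hXorb,
        Set.ncard_univ]
      congr 1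
      letI := Fintype.ofFinite V
      rw [Nat.card_eq_fintype_card, Nat.card_eq_fintype_card, Fintype.card_subtype_compl,
        Fintype.card_subtype_eq]
    have hRu : Nat.card (MulAction.stabilizer ↥R u) ∣ Nat.card (MulAction.stabilizer ↥X v) := by
      let ι : MulAction.stabilizer ↥R u →* MulAction.stabilizer ↥X v :=
        { toFun := fun s => ⟨⟨s.1.1, hRX s.1.2⟩,
            Subtype.ext (congrArg (fun z : {u : U // u ≠ 0} => (z.1 : V)) s.2)⟩
          map_one' := Subtype.ext (Subtype.ext rfl)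
          map_mul' := fun a b => Subtype.ext (Subtype.ext rfl) }
      exact Subgroup.card_dvd_of_injective ι fun a b h => Subtype.ext (Subtype.ext
        (congrArg (fun s : MulAction.stabilizer ↥X v => (s.1.1 : V ≃ₗ[ZMod 2] V)) h))
    obtain ⟨a, ha⟩ := IsPGroup.iff_card.1 hR
    obtain ⟨b, hb, hbc⟩ : ∃ b, b ≤ a ∧ Nat.card (MulAction.stabilizer ↥R u) = r ^ b := by
      exact (Nat.dvd_prime_pow Fact.out).1 (ha ▸ Subgroup.card_subgroup_dvd_card _)
    have hmul : Nat.card (MulAction.orbit ↥R u) * r ^ b = r ^ a := by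
      rw [← hbc, ← ha, ← Subgroup.index_mul_card (MulAction.stabilizer ↥R u), MulAction.index_stabilizer,
        Nat.card_coe_set_eq]
    have hbig : r ^ (e + b) ∣ r ^ a * R.relIndex X := by
      rw [← ha, card_mul_relIndex' hRX, ← hX, pow_add, ← hbc]
      exact mul_dvd_mul hq hRu
    have hea : e + b ≤ a := by
      refine (Nat.pow_dvd_pow_iff_le_right (Fact.out : r.Prime).one_lt).1 ?_
      exact ((Nat.Coprime.pow_left _ ((Fact.out : r.Prime).coprime_iff_not_dvd.2 hidx)).dvd_mul_right).1 hbig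
    refine (Nat.mul_dvd_mul_iff_right (pow_pos (Fact.out : r.Prime).pos b)).1 ?_
    rw [hmul, ← pow_add]
    exact pow_dvd_pow r hea
  have hsum : r ^ e ∣ Nat.card {u : U // u ≠ 0} := by
    letI := Fintype.ofFinite (MulAction.orbitRel.Quotient ↥R {u : U // u ≠ 0})
    rw [Nat.card_congr (MulAction.selfEquivSigmaOrbits ↥R {u : U // u ≠ 0}), Nat.card_sigma]
    exact Finset.dvd_sum fun o _ => horb _
  letI := Fintype.ofFinite ↥U
  rwa [Nat.card_eq_fintype_card, Fintype.card_subtype_compl, Fintype.card_subtype_eq,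
    ← Nat.card_eq_fintype_card] at hsum

/-- The centralizer of an irreducible set of maps is cyclic. -/
theorem isCyclic_centralizer [Nontrivial V] (R : Subgroup (V ≃ₗ[ZMod 2] V))
    (hirr : ∀ U : Submodule (ZMod 2) V, (∀ x ∈ R, ∀ u ∈ U, x u ∈ U) → U = ⊥ ∨ U = ⊤) :
    IsCyclic ↥(Subgroup.centralizer (R : Set (V ≃ₗ[ZMod 2] V))) := by
  haveI := finite_equiv (V := V)
  haveI : Finite (Module.End (ZMod 2) V) :=
    Finite.of_injective (fun f => (f : V → V)) DFunLike.coe_injective
  set D := Subring.centralizer ((fun x : V ≃ₗ[ZMod 2] V => (x.toLinearMap : Module.End (ZMod 2) V)) '' R) with hD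
  have hmem : ∀ y ∈ D, ∀ x ∈ R, ∀ v, y (x v) = x (y v) := fun y hy x hx v =>
    (LinearMap.congr_fun (Subring.mem_centralizer_iff.1 hy _ ⟨x, hx, rfl⟩) v).symm
  haveI : NoZeroDivisors ↥D := ⟨fun {a b} h => by
    rcases hirr (LinearMap.ker (a : Module.End (ZMod 2) V)) (fun x hx u hu => by
      rw [LinearMap.mem_ker] at hu ⊢; rw [hmem _ a.2 x hx, hu, map_zero]) with hb | ht
    · refine Or.inr (Subtype.ext (LinearMap.ext fun v => ?_))
      exact (Submodule.mem_bot (R := ZMod 2)).1
        (hb ▸ LinearMap.mem_ker.2 (LinearMap.congr_fun (congrArg Subtype.val h) v))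
    · exact Or.inl (Subtype.ext (LinearMap.ker_eq_top.1 ht))⟩
  haveI : IsDomain ↥D := NoZeroDivisors.to_isDomain _
  letI : Field ↥D := (Finite.isDomain_to_isField ↥D).toField
  let f : ↥(Subgroup.centralizer (R : Set (V ≃ₗ[ZMod 2] V))) →* ↥D :=
    { toFun := fun c => ⟨c.1.toLinearMap, Subring.mem_centralizer_iff.2 (by
        rintro _ ⟨x, hx, rfl⟩
        exact congrArg (fun z : V ≃ₗ[ZMod 2] V => z.toLinearMap) (c.2 x hx))⟩
      map_one' := rfl
      map_mul' := fun a b => rfl }
  exact isCyclic_of_subgroup_isDomain f fun a b h =>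
    Subtype.ext (LinearEquiv.toLinearMap_injective (congrArg Subtype.val h))

theorem forall_irreducible (X : Subgroup (V ≃ₗ[ZMod 2] V))
    (htrans : ∀ a b : V, a ≠ 0 → b ≠ 0 → ∃ x ∈ X, x a = b)
    {r e : ℕ} [Fact r.Prime] (hq : r ^ e ∣ Nat.card V - 1)
    (hprim : ∀ k, 0 < k → k < Module.finrank (ZMod 2) V → ¬ r ^ e ∣ 2 ^ k - 1)
    {R : Subgroup (V ≃ₗ[ZMod 2] V)}
    (hRX : R ≤ X) (hR : IsPGroup r R) (hidx : ¬ r ∣ R.relIndex X)
    (U : Submodule (ZMod 2) V) (hU : ∀ x ∈ R, ∀ u ∈ U, x u ∈ U) : U = ⊥ ∨ U = ⊤ := by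
  by_contra hne
  obtain ⟨hb, ht⟩ := not_or.1 hne
  refine hprim _ (Nat.pos_of_ne_zero (Submodule.finrank_eq_zero.not.mpr hb)) (Submodule.finrank_lt ht) ?_
  have := dvd_card_sub_one X htrans hq hRX hR hidx U hU
  rwa [Module.natCard_eq_pow_finrank (K := ZMod 2), Nat.card_zmod] at this

theorem isSolvable_of_23 {M : Type*} [Group M] [Finite M]
    (h : ∀ p : ℕ, p.Prime → p ∣ Nat.card M → p = 2 ∨ p = 3) : Group.IsSolvable M := by
  obtain ⟨a, m, hm, hM⟩ := Nat.exists_eq_pow_mul_and_not_dvd (Nat.card_pos (α := M)).ne' 2 (by norm_num)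
  have hm0 : m ≠ 0 := by rintro rfl; exact hm (dvd_zero 2)
  obtain ⟨b, l, hl, rfl⟩ := Nat.exists_eq_pow_mul_and_not_dvd hm0 3 (by norm_num)
  obtain rfl : l = 1 := by
    by_contra hl1
    obtain ⟨p, hp, hpl⟩ := Nat.exists_prime_and_dvd hl1
    rcases h p hp (hM ▸ (hpl.mul_left _).mul_left _) with rfl | rfl
    · exact hm (hpl.mul_left _)
    · exact hl hpl
  exact CharInt.isSolvable_of_card_eq Nat.prime_two Nat.prime_three (a := a) (b := b)
    (by rw [hM, mul_one])

/-- The automorphism group of a 3-group of order at most 81 with commutative exceptions. -/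
theorem commutative_or_23 {P : Type*} [Group P] [Finite P] {a : ℕ} (hP : Nat.card P = 3 ^ a) (ha : a ≤ 4)
    {M : Subgroup (MulAut P)} (hM : ∀ p : ℕ, p.Prime → p ∣ Nat.card M → p ∈ [2, 3, 5, 7, 31]) :
    IsMulCommutative P ∨ ∀ p : ℕ, p.Prime → p ∣ Nat.card M → p = 2 ∨ p = 3 := by
  by_contra hne
  obtain ⟨hab, hp⟩ := not_or.1 hne
  push Not at hp
  obtain ⟨p, hp, hdvd, hp2, hp3⟩ := hp
  haveI : Fact p.Prime := ⟨hp⟩
  haveI : Fact (Nat.Prime 3) := ⟨Nat.prime_three⟩
  obtain ⟨⟨φ, hφM⟩, hφ⟩ := exists_prime_orderOf_dvd_card' (G := M) p hdvd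
  rw [Subgroup.orderOf_mk] at hφ
  have hF : IsPGroup p (Subgroup.zpowers φ) := IsPGroup.of_card (n := 1) (by rw [Nat.card_zpowers, hφ, pow_one])
  -- `|fixed points| ≡ |Q|` on invariant subgroups
  have key : ∀ Q : Subgroup P, Q.Characteristic → ∀ c, Nat.card Q = 3 ^ c → c ≤ 4 →
      (∃ x ∈ Q, φ x ≠ x) → (∀ x ∈ Q, φ x = x → x = 1) ∧ p = 5 ∧ c = 4 := by
    intro Q hQ c hc hc4 hmove
    let g : Subgroup.zpowers φ →* MulAut Q :=
      (MonoidHom.fst _ _).comp ((SolvableAut.resPair Q).comp (Subgroup.zpowers φ).subtype)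
    letI : MulAction (Subgroup.zpowers φ) Q := MulAction.compHom Q g
    have hmod := hF.card_modEq_card_fixedPoints (α := Q)
    let F : Subgroup Q :=
      { carrier := {x | φ x.1 = x.1}
        one_mem' := map_one φ
        mul_mem' := fun {x y} hx hy => by
          show φ (x.1 * y.1) = x.1 * y.1
          rw [map_mul, show φ x.1 = x.1 from hx, show φ y.1 = y.1 from hy]
        inv_mem' := fun {x} hx => by
          show φ x.1⁻¹ = x.1⁻¹
          rw [map_inv, show φ x.1 = x.1 from hx] }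
    have hfix : MulAction.fixedPoints (Subgroup.zpowers φ) Q = (F : Set Q) := by
      ext x
      constructor
      · intro hx
        exact congrArg Subtype.val (hx ⟨φ, Subgroup.mem_zpowers φ⟩)
      · intro hx g
        refine Subtype.ext ?_
        show (g : MulAut P) x.1 = x.1
        have hle : Subgroup.zpowers φ ≤ MulAction.stabilizer (MulAut P) x.1 := Subgroup.zpowers_le.2 hx
        exact hle g.2
    rw [hfix, SetLike.coe_sort_coe] at hmod
    obtain ⟨d, hd, hdc⟩ := (Nat.dvd_prime_pow Nat.prime_three).1 (hc ▸ F.card_subgroup_dvd_card)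
    have hdlt : d < c := lt_of_le_of_ne hd fun e => by
      obtain ⟨x, hx, hxm⟩ := hmove
      have : F = ⊤ := Subgroup.eq_top_of_card_eq F (by rw [hdc, hc, e])
      exact hxm (this.ge (Subgroup.mem_top (⟨x, hx⟩ : Q)) :)
    rw [hc, hdc] at hmod
    have hin := hM p hp hdvd
    have hres : p = 5 ∧ c = 4 ∧ d = 0 := by
      fin_cases hin <;> interval_cases c <;> interval_cases d <;> simp_all [Nat.ModEq]
    obtain ⟨rfl, rfl, rfl⟩ := hres
    refine ⟨fun x hx hxf => ?_, rfl, rfl⟩
    have hbot : F = ⊥ := Subgroup.card_eq_one.1 (by rw [hdc, pow_zero])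
    have hmem : (⟨x, hx⟩ : Q) ∈ F := hxf
    rw [hbot, Subgroup.mem_bot] at hmem
    exact congrArg Subtype.val hmem
  have hmove : ∃ x, φ x ≠ x := by
    by_contra hall
    push Not at hall
    rw [show φ = 1 from MulEquiv.ext hall, orderOf_one] at hφ
    exact hp.one_lt.ne hφ
  obtain ⟨x0, hx0⟩ := hmove
  obtain ⟨hfpf, -, rfl⟩ := key ⊤ inferInstance a (by rw [Subgroup.card_top, hP]) ha ⟨x0, Subgroup.mem_top _, hx0⟩
  have hpg : IsPGroup 3 P := IsPGroup.of_card hP
  haveI : Nontrivial P := Finite.one_lt_card_iff_nontrivial.1 (by rw [hP]; norm_num)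
  obtain ⟨c, hc4, hc⟩ := (Nat.dvd_prime_pow Nat.prime_three).1 (hP ▸ (Subgroup.center P).card_subgroup_dvd_card)
  haveI := hpg.center_nontrivial
  obtain ⟨z, hz⟩ := exists_ne (1 : Subgroup.center P)
  have hzm : φ z ≠ z := fun e => hz (Subtype.ext (hfpf z (Subgroup.mem_top _) e))
  obtain ⟨-, -, rfl⟩ := key (Subgroup.center P) inferInstance c hc hc4 ⟨z, z.2, hzm⟩
  have hct : Subgroup.center P = ⊤ := Subgroup.eq_top_of_card_eq _ (by rw [hc, hP])
  exact hab ⟨⟨fun x y => (Subgroup.mem_center_iff.1 (hct ▸ Subgroup.mem_top x : x ∈ Subgroup.center P) y).symm⟩⟩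

/-- The normalizer of a suitable Sylow subgroup of a transitive group is solvable. -/
theorem exists_solvable_normalizer (hn : 3 ≤ Module.finrank (ZMod 2) V) (X : Subgroup (V ≃ₗ[ZMod 2] V))
    (htrans : ∀ a b : V, a ≠ 0 → b ≠ 0 → ∃ x ∈ X, x a = b) :
    ∃ r : ℕ, r.Prime ∧ ∀ R : Subgroup (V ≃ₗ[ZMod 2] V), R ≤ X → IsPGroup r R → ¬ r ∣ R.relIndex X →
      Group.IsSolvable ↥(Subgroup.normalizer (R : Set (V ≃ₗ[ZMod 2] V))) := by
  haveI := finite_equiv (V := V)
  set n := Module.finrank (ZMod 2) V with hn'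
  have hcard : Nat.card V = 2 ^ n := by rw [Module.natCard_eq_pow_finrank (K := ZMod 2), Nat.card_zmod]
  haveI : Nontrivial V := Module.nontrivial_of_finrank_pos (R := ZMod 2) (by omega)
  obtain ⟨r, e, hr, hq, hprim, hcase⟩ : ∃ r e : ℕ, r.Prime ∧ r ^ e ∣ Nat.card V - 1 ∧
      (∀ k, 0 < k → k < n → ¬ r ^ e ∣ 2 ^ k - 1) ∧ (e = 1 ∨ (n = 6 ∧ r = 3)) := by
    by_cases h6 : n = 6
    · exact ⟨3, 2, Nat.prime_three, by rw [hcard, h6]; norm_num,
        fun k hk hk6 => by rw [h6] at hk6; interval_cases k <;> norm_num, Or.inr ⟨h6, rfl⟩⟩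
    · obtain ⟨r, hr, hd, hprim⟩ := Zsigmondy.exists_primitive_prime_divisor 2 n (by norm_num) (by omega)
        (fun h => h6 h.2) (fun h => by omega)
      exact ⟨r, 1, hr, by rwa [pow_one, hcard], fun k hk hkn => by rw [pow_one]; exact hprim k hk hkn,
        Or.inl rfl⟩
  refine ⟨r, hr, fun R hRX hR hidx => ?_⟩
  haveI : Fact r.Prime := ⟨hr⟩
  have hirr := forall_irreducible X htrans hq hprim hRX hR hidx
  have hcyc := isCyclic_centralizer R hirr
  set ν := Subgroup.normalizerMonoidHom R with hν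
  haveI : Group.IsSolvable ν.ker := by
    rw [hν, Subgroup.normalizerMonoidHom_ker]
    let em : ↥((Subgroup.centralizer (R : Set (V ≃ₗ[ZMod 2] V))).subgroupOf
        (Subgroup.normalizer (R : Set (V ≃ₗ[ZMod 2] V)))) ≃* ↥(Subgroup.centralizer (R : Set (V ≃ₗ[ZMod 2] V))) :=
      Subgroup.subgroupOfEquivOfLe (Subgroup.centralizer_le_normalizer _)
    haveI : Group.IsSolvable ↥(Subgroup.centralizer (R : Set (V ≃ₗ[ZMod 2] V))) :=
      Group.isSolvable_of_comm fun a b => mul_comm' a b
    exact Group.isSolvable_of_isSolvable_injective (f := em.toMonoidHom) em.injective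
  suffices hrange : Group.IsSolvable ν.range from ThreeInvol.solvable_of_ker_range ν inferInstance hrange
  have habel : IsMulCommutative R → Group.IsSolvable ν.range := by
    intro hab
    have hle : R ≤ Subgroup.centralizer (R : Set (V ≃ₗ[ZMod 2] V)) := fun x hx y hy =>
      congrArg Subtype.val (hab.is_comm.comm ⟨y, hy⟩ ⟨x, hx⟩)
    haveI : IsCyclic ↥R := isCyclic_of_injective (Subgroup.inclusion hle) (Subgroup.inclusion_injective hle)
    haveI : Group.IsSolvable (MulAut ↥R) :=
      Group.isSolvable_of_isSolvable_injective (f := (IsCyclic.mulAutMulEquiv ↥R).toMonoidHom)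
        (IsCyclic.mulAutMulEquiv ↥R).injective
    infer_instance
  rcases hcase with rfl | ⟨h6, rfl⟩
  · refine habel ?_
    -- a central element of order `r` has commutative centralizer
    haveI : Nontrivial R := by
      by_contra hnt
      rw [not_nontrivial_iff_subsingleton] at hnt
      have hbot : R = ⊥ := Subgroup.eq_bot_of_subsingleton R
      obtain ⟨v, hv⟩ := exists_ne (0 : V)
      rcases hirr (Submodule.span (ZMod 2) {v}) (fun x hx u hu => by
        rw [hbot, Subgroup.mem_bot] at hx; subst hx; exact hu) with hs | hs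
      · exact hv (Submodule.span_singleton_eq_bot.1 hs)
      · have := finrank_span_singleton (K := ZMod 2) hv
        rw [hs, finrank_top] at this
        omega
    haveI := hR.center_nontrivial
    obtain ⟨z, hz⟩ := exists_prime_orderOf_dvd_card' (G := Subgroup.center ↥R) r (by
      obtain ⟨m, hm⟩ := IsPGroup.iff_card.1 (hR.to_subgroup (Subgroup.center ↥R))
      have : 1 < Nat.card (Subgroup.center ↥R) := Finite.one_lt_card
      rw [hm] at this ⊢
      exact dvd_pow_self r (by rintro rfl; simp at this))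
    let Z : Module.End (ZMod 2) V := ((z.1 : V ≃ₗ[ZMod 2] V)).toLinearMap
    have hpow : ∀ (m : ℕ) (x : V ≃ₗ[ZMod 2] V), (x ^ m).toLinearMap = (x.toLinearMap : Module.End (ZMod 2) V) ^ m := by
      intro m x
      induction m with
      | zero => rfl
      | succ m ih => rw [pow_succ, pow_succ, ← ih]; rfl
    have hzo : orderOf (z.1 : V ≃ₗ[ZMod 2] V) = r := by rw [Subgroup.orderOf_coe, Subgroup.orderOf_coe, hz]
    have hr2 : r ≠ 2 := by
      rintro rfl
      have h1 := hq
      rw [pow_one, hcard] at h1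
      have h2 : 2 ∣ 2 ^ n := dvd_pow_self 2 (by omega)
      have : 1 ≤ 2 ^ n := Nat.one_le_pow _ _ (by norm_num)
      omega
    refine ⟨⟨fun x y => ?_⟩⟩
    have hc : ∀ x : R, Commute ((x.1 : V ≃ₗ[ZMod 2] V).toLinearMap : Module.End (ZMod 2) V) Z := fun x =>
      congrArg (fun t : ↥R => ((t.1 : V ≃ₗ[ZMod 2] V).toLinearMap : Module.End (ZMod 2) V))
        (Subgroup.mem_center_iff.1 z.2 x)
    have := SolvableTransitive.mul_comm_of_commute Z
      (show Z ^ r = 1 by
        refine (hpow r z.1.1).symm.trans ?_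
        rw [← hzo, pow_orderOf_eq_one]; rfl)
      (fun h => by
        have : (z.1 : V ≃ₗ[ZMod 2] V) = 1 := LinearEquiv.toLinearMap_injective h
        rw [this, orderOf_one] at hzo
        exact hr.one_lt.ne hzo)
      (fun h => hr2 (((Nat.prime_dvd_prime_iff_eq Nat.prime_two hr).1
        ((ZMod.natCast_eq_zero_iff _ _).1 h)).symm))
      (fun k hk hkn => by rw [Nat.card_zmod]; simpa using hprim k hk hkn)
      (hc x) (hc y)
    exact Subtype.ext (LinearEquiv.toLinearMap_injective this)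
  · have hY := card_equiv_six (V := V) h6
    obtain ⟨a, ha⟩ := IsPGroup.iff_card.1 hR
    have ha4 : a ≤ 4 := by
      by_contra h
      have h5 : 3 ^ 5 ∣ Nat.card (V ≃ₗ[ZMod 2] V) :=
        ((pow_dvd_pow 3 (by omega : 5 ≤ a)).trans ha.symm.dvd).trans (Subgroup.card_subgroup_dvd_card R)
      rw [hY] at h5
      norm_num at h5
    rcases commutative_or_23 (P := ↥R) (M := ν.range) ha ha4 (fun p hp hdvd => by
      have h1 : p ∣ Nat.card (V ≃ₗ[ZMod 2] V) :=
        (hdvd.trans (Subgroup.card_range_dvd ν)).trans (Subgroup.card_subgroup_dvd_card _)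
      rw [hY] at h1
      simp only [List.mem_cons, List.not_mem_nil, or_false]
      rcases hp.dvd_mul.1 h1 with h | h
      rcases hp.dvd_mul.1 h with h | h
      rcases hp.dvd_mul.1 h with h | h
      rcases hp.dvd_mul.1 h with h | h
      all_goals first
        | exact Or.inl ((Nat.prime_dvd_prime_iff_eq hp Nat.prime_two).1 (hp.dvd_of_dvd_pow h))
        | exact Or.inr (Or.inl ((Nat.prime_dvd_prime_iff_eq hp Nat.prime_three).1 (hp.dvd_of_dvd_pow h)))
        | exact Or.inr (Or.inr (Or.inl ((Nat.prime_dvd_prime_iff_eq hp (by norm_num)).1 h)))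
        | exact Or.inr (Or.inr (Or.inr (Or.inl ((Nat.prime_dvd_prime_iff_eq hp (by norm_num)).1 (hp.dvd_of_dvd_pow h)))))
        | exact Or.inr (Or.inr (Or.inr (Or.inr ((Nat.prime_dvd_prime_iff_eq hp (by norm_num)).1 h))))) with h | h
    · exact habel h
    · exact isSolvable_of_23 h

/-- A group normalising a transitive group and a Sylow 2-subgroup of it is solvable. -/
theorem isSolvable_of_normalizes (hFT : FTConsumers.OddOrder.{u}) (X S A : Subgroup (V ≃ₗ[ZMod 2] V))
    (htrans : ∀ a b : V, a ≠ 0 → b ≠ 0 → ∃ x ∈ X, x a = b) (hS : IsPGroup 2 S) (hSX : S ≤ X)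
    (hidx : ¬ 2 ∣ S.relIndex X) (hAX : A ≤ Subgroup.normalizer (X : Set (V ≃ₗ[ZMod 2] V)))
    (hAS : A ≤ Subgroup.normalizer (S : Set (V ≃ₗ[ZMod 2] V))) : Group.IsSolvable A := by
  haveI := finite_equiv (V := V)
  by_cases hn : Module.finrank (ZMod 2) V < 3
  · let f : (V ≃ₗ[ZMod 2] V) →* Equiv.Perm {v : V // v ≠ 0} :=
      { toFun := fun x => x.toEquiv.subtypeEquiv fun v => (x.map_ne_zero_iff).symm
        map_one' := Equiv.ext fun v => rfl
        map_mul' := fun a b => Equiv.ext fun v => rfl }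
    have hf : Function.Injective f := fun a b h => LinearEquiv.ext fun v => by
      by_cases hv : v = 0
      · rw [hv, map_zero, map_zero]
      · exact congrArg Subtype.val (Equiv.congr_fun h ⟨v, hv⟩)
    haveI : Group.IsSolvable (V ≃ₗ[ZMod 2] V) := by
      refine SolvableAut.isSolvable_of_dvd_24 ((Subgroup.card_dvd_of_injective f hf).trans ?_)
      rw [Nat.card_perm]
      refine (Nat.factorial_dvd_factorial (?_ : Nat.card {v : V // v ≠ 0} ≤ 3)).trans (by decide)
      letI := Fintype.ofFinite V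
      rw [Nat.card_eq_fintype_card, Fintype.card_subtype_compl, Fintype.card_subtype_eq,
        ← Nat.card_eq_fintype_card, Module.natCard_eq_pow_finrank (K := ZMod 2), Nat.card_zmod]
      have := Nat.pow_le_pow_right (show 1 ≤ 2 by norm_num) (show Module.finrank (ZMod 2) V ≤ 2 by omega)
      omega
    infer_instance
  push Not at hn
  obtain ⟨r, hr, hnorm⟩ := exists_solvable_normalizer hn X htrans
  haveI : Fact r.Prime := ⟨hr⟩
  set H := Subgroup.normalizer (X : Set (V ≃ₗ[ZMod 2] V)) with hH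
  have hXH : X ≤ H := Subgroup.le_normalizer
  haveI : (X.subgroupOf H).Normal := Subgroup.normal_subgroupOf_iff_le_normalizer hXH |>.2 le_rfl
  let R : Sylow r ↥(X.subgroupOf H) := default
  set R0 : Subgroup (V ≃ₗ[ZMod 2] V) := ((R : Subgroup ↥(X.subgroupOf H)).map (X.subgroupOf H).subtype).map H.subtype
    with hR0
  have hR0X : R0 ≤ X := by
    rintro _ ⟨_, ⟨x, -, rfl⟩, rfl⟩
    exact x.2
  haveI : Group.IsSolvable ↥(Subgroup.normalizer (R0 : Set (V ≃ₗ[ZMod 2] V))) := by
    refine hnorm R0 hR0X ((R.2.map _).map _) ?_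
    have h1 : R0.relIndex X = (R : Subgroup ↥(X.subgroupOf H)).index := by
      have hc : Nat.card R0 = Nat.card (R : Subgroup ↥(X.subgroupOf H)) := by
        rw [hR0, Subgroup.card_map_of_injective H.subtype_injective,
          Subgroup.card_map_of_injective (X.subgroupOf H).subtype_injective]
      have hX : Nat.card ↥(X.subgroupOf H) = Nat.card X := Nat.card_congr (Subgroup.subgroupOfEquivOfLe hXH).toEquiv
      refine Nat.eq_of_mul_eq_mul_left (Nat.card_pos (α := R0)) ?_
      rw [card_mul_relIndex' hR0X, hc, Subgroup.card_mul_index, hX]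
    rw [h1]
    exact R.not_dvd_index
  -- the image in `H ⧸ X`
  let π : ↥A →* ↥H ⧸ X.subgroupOf H := (QuotientGroup.mk' _).comp (Subgroup.inclusion hAX)
  have hrange : Group.IsSolvable π.range := by
    set NR : Subgroup ↥H := (Subgroup.normalizer (R0 : Set (V ≃ₗ[ZMod 2] V))).subgroupOf H with hNR
    let ι : ↥NR →* ↥(Subgroup.normalizer (R0 : Set (V ≃ₗ[ZMod 2] V))) :=
      { toFun := fun x => ⟨x.1.1, x.2⟩, map_one' := rfl, map_mul' := fun _ _ => rfl }
    haveI : Group.IsSolvable NR := Group.isSolvable_of_isSolvable_injective (f := ι)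
      fun a b h => Subtype.ext (Subtype.ext
        (congrArg (fun z : ↥(Subgroup.normalizer (R0 : Set (V ≃ₗ[ZMod 2] V))) => z.1) h))
    haveI : Group.IsSolvable (NR.map (QuotientGroup.mk' (X.subgroupOf H))) :=
      Group.isSolvable_of_surjective (f := (QuotientGroup.mk' (X.subgroupOf H)).subgroupMap NR)
        ((QuotientGroup.mk' (X.subgroupOf H)).subgroupMap_surjective NR)
    have htop : NR.map (QuotientGroup.mk' (X.subgroupOf H)) = ⊤ := by
      rw [eq_top_iff]
      rintro q -
      obtain ⟨h, rfl⟩ := QuotientGroup.mk'_surjective _ q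
      have hle : Subgroup.normalizer (((R : Subgroup ↥(X.subgroupOf H)).map (X.subgroupOf H).subtype) : Set ↥H) ≤ NR := by
        intro g hg
        show (g : V ≃ₗ[ZMod 2] V) ∈ Subgroup.normalizer (R0 : Set (V ≃ₗ[ZMod 2] V))
        rw [hR0]
        exact Subgroup.le_normalizer_map H.subtype ⟨g, hg, rfl⟩
      obtain ⟨m, hm, x, hx, rfl⟩ := Subgroup.mem_sup_of_normal_right.1
        ((Sylow.normalizer_sup_eq_top R).ge (Subgroup.mem_top h))
      refine ⟨m, hle hm, ?_⟩
      rw [map_mul, show QuotientGroup.mk' (X.subgroupOf H) x = 1 from (QuotientGroup.eq_one_iff x).2 hx, mul_one]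
    haveI : Group.IsSolvable (⊤ : Subgroup (↥H ⧸ X.subgroupOf H)) := htop ▸ this
    exact Group.isSolvable_of_isSolvable_injective (f := Subgroup.inclusion (le_top : π.range ≤ ⊤))
      (Subgroup.inclusion_injective _)
  refine ThreeInvol.solvable_of_ker_range π ?_ hrange
  set N := X ⊓ Subgroup.normalizer (S : Set (V ≃ₗ[ZMod 2] V)) with hN
  have hSN : S ≤ N := le_inf hSX Subgroup.le_normalizer
  haveI : Group.IsSolvable ↥N := by
    haveI : (S.subgroupOf N).Normal := Subgroup.normal_subgroupOf_iff_le_normalizer hSN |>.2 inf_le_right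
    haveI : Group.IsSolvable ↥(S.subgroupOf N) := by
      haveI : Fact (Nat.Prime 2) := ⟨Nat.prime_two⟩
      have h2 : IsPGroup 2 ↥(S.subgroupOf N) := hS.comap_subtype
      haveI : Group.IsNilpotent ↥(S.subgroupOf N) := h2.isNilpotent
      infer_instance
    haveI : Group.IsSolvable (↥N ⧸ S.subgroupOf N) := hFT _ (Nat.odd_iff.2 (Nat.two_dvd_ne_zero.1 fun h =>
      hidx (Subgroup.relIndex_mul_relIndex S N X hSN inf_le_left ▸ h.mul_right _)))
    exact Group.isSolvable_of_ker_le_range (S.subgroupOf N).subtype (QuotientGroup.mk' (S.subgroupOf N))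
      (by rw [QuotientGroup.ker_mk', Subgroup.range_subtype])
  let f : ↥π.ker →* ↥N :=
    { toFun := fun a => ⟨a.1.1, (QuotientGroup.eq_one_iff (Subgroup.inclusion hAX a.1)).1 (MonoidHom.mem_ker.1 a.2), hAS a.1.2⟩
      map_one' := rfl
      map_mul' := fun _ _ => rfl }
  exact Group.isSolvable_of_isSolvable_injective (f := f) fun a b h =>
    Subtype.ext (Subtype.ext (congrArg (fun z : ↥N => z.1) h))

end Cfsg.Agent.OutSolvable
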