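import Cfsg.Agent.Lib.OutSolvable.FixInvolutions
import Cfsg.Agent.Lib.OutSolvable.TransitiveNormalizer
import Cfsg.Agent.Lib.SylowCentralAut.Simple
import Cfsg.Agent.Lib.PGroup.Frattini
import Cfsg.Agent.Lib.A8Sub.Tools
import Cfsg.Agent.Lib.Transfer.WeaklyClosed

/-!
# Solvable outer automorphism groups from the Sylow 2-subgroup

`isSolvable_out_two_gen`, `isSolvable_out_three_gen`, `isSolvable_out_commuting`.
-/

set_option autoImplicit false
set_option linter.style.haveILetI false

namespace Cfsg.Agent.OutSolvable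

open Subgroup Cfsg SylowCentralAut
open scoped Classical IsMulCommutative commutatorElement

universe u

/-- An automorphism of odd order of a 2-group trivial on the Frattini quotient is trivial. -/
theorem eq_one_of_frattini {T : Type*} [Group T] [Finite T] (hT : IsPGroup 2 T) (φ : MulAut T)
    (hodd : Odd (orderOf φ)) (hfix : ∀ x : T, x⁻¹ * φ x ∈ frattini T) : φ = 1 := by
  haveI : Fact (Nat.Prime 2) := ⟨Nat.prime_two⟩
  by_contra hne
  obtain ⟨r, hr, hrd⟩ := Nat.exists_prime_and_dvd (n := orderOf φ) (by rwa [Ne, orderOf_eq_one_iff])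
  haveI : Fact r.Prime := ⟨hr⟩
  have hr2 : r ≠ 2 := fun e => Nat.not_even_iff_odd.2 hodd (even_iff_two_dvd.2 (e ▸ hrd))
  obtain ⟨m, hm⟩ := hrd
  set ψ := φ ^ m with hψ
  have hm0 : 0 < m := Nat.pos_of_ne_zero fun e => by
    rw [e, mul_zero] at hm
    exact (orderOf_pos φ).ne' hm
  have hψo : orderOf ψ = r := by
    rw [hψ, orderOf_pow_of_dvd hm0.ne' ⟨r, by rw [hm, mul_comm]⟩, hm, Nat.mul_div_cancel _ hm0]
  have hψfix : ∀ x : T, x⁻¹ * ψ x ∈ frattini T := by
    rw [hψ]
    intro x
    clear hψo hψ hm hm0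
    induction m with
    | zero => simp
    | succ m ih =>
      rw [pow_succ', MulAut.mul_apply]
      have h1 := hfix ((φ ^ m) x)
      have : x⁻¹ * φ ((φ ^ m) x) = x⁻¹ * (φ ^ m) x * (((φ ^ m) x)⁻¹ * φ ((φ ^ m) x)) := by group
      rw [this]
      exact mul_mem ih h1
  let F : Subgroup T :=
    { carrier := {x | ψ x = x}
      one_mem' := map_one ψ
      mul_mem' := fun {x y} hx hy => by
        show ψ (x * y) = x * y
        rw [map_mul, show ψ x = x from hx, show ψ y = y from hy]
      inv_mem' := fun {x} hx => by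
        show ψ x⁻¹ = x⁻¹
        rw [map_inv, show ψ x = x from hx] }
  have htop : Subgroup.closure (F : Set T) ⊔ frattini T = ⊤ := by
    rw [closure_eq, eq_top_iff]
    intro x _
    -- a fixed point in the coset `x Φ`
    let C := {y : T // x⁻¹ * y ∈ frattini T}
    let σ : Equiv.Perm C :=
      { toFun := fun y => ⟨ψ y.1, by
          have h := mul_mem y.2 (hψfix y.1)
          rwa [show x⁻¹ * y.1 * (y.1⁻¹ * ψ y.1) = x⁻¹ * ψ y.1 by group] at h⟩
        invFun := fun y => ⟨ψ⁻¹ y.1, by
          have h1 := hψfix (ψ⁻¹ y.1)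
          rw [MulAut.apply_inv_self] at h1
          have := mul_mem y.2 (inv_mem h1)
          rwa [show x⁻¹ * y.1 * ((ψ⁻¹ y.1)⁻¹ * y.1)⁻¹ = x⁻¹ * ψ⁻¹ y.1 by group] at this⟩
        left_inv := fun y => Subtype.ext (MulAut.inv_apply_self T ψ y.1)
        right_inv := fun y => Subtype.ext (MulAut.apply_inv_self T ψ y.1) }
    have hσk : ∀ k : ℕ, ∀ y : C, ((σ ^ k) y).1 = (ψ ^ k) y.1 := by
      intro k
      induction k with
      | zero => intro y; rfl
      | succ k ih => intro y; rw [pow_succ', pow_succ', Equiv.Perm.mul_apply, MulAut.mul_apply, ← ih]; rfl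
    have hσ : σ ^ r ^ 1 = 1 := Equiv.ext fun y => Subtype.ext (by
      rw [pow_one, hσk, ← hψo, pow_orderOf_eq_one]; rfl)
    haveI : Fintype C := Fintype.ofFinite C
    have hC : ¬ r ∣ Fintype.card C := by
      rw [← Nat.card_eq_fintype_card, Nat.card_congr (Equiv.subtypeEquiv (Equiv.mulLeft x⁻¹) fun y => Iff.rfl :
        C ≃ {y : T // y ∈ frattini T})]
      obtain ⟨k, hk⟩ := IsPGroup.iff_card.1 (hT.to_subgroup (frattini T))
      intro h
      exact hr2 ((Nat.prime_dvd_prime_iff_eq hr Nat.prime_two).1 (hr.dvd_of_dvd_pow (hk ▸ h :)))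
    obtain ⟨y, hy⟩ := Equiv.Perm.exists_fixed_point_of_prime hC hσ
    have hyF : y.1 ∈ F := congrArg Subtype.val hy
    have : x = y.1 * (x⁻¹ * y.1)⁻¹ := by group
    rw [this]
    exact mul_mem (mem_sup_left hyF) (mem_sup_right (inv_mem y.2))
  have hFtop : F = ⊤ := by rw [← F.closure_eq, PGroup.closure_eq_top_of_sup_frattini htop]
  have : ψ = 1 := MulEquiv.ext fun x => (hFtop.ge (mem_top x) :)
  rw [this, orderOf_one] at hψo
  exact hr.one_lt.ne hψo

variable {G : Type u} [Group G] [Finite G] [IsSimpleGroup G] (hG : ¬ IsMulCommutative G)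
  (hFT : FTConsumers.OddOrder.{u}) (S : Sylow 2 G) (hS1 : (S : Subgroup G) ≠ ⊥)

/-- The action of `N_{Aut G}(S)` on the Frattini quotient of `S`. -/
noncomputable def frattiniHom : normalizer (innS S : Set (MulAut G)) →* MulAut (↥(innS S) ⧸ frattini ↥(innS S)) :=
  ((MonoidHom.snd _ _).comp (SolvableAut.resPair (frattini ↥(innS S)))).comp (normalizerMonoidHom (innS S))

theorem frattiniHom_eq_one (l : normalizer (innS S : Set (MulAut G))) (h : frattiniHom S l = 1)
    (hodd : Odd (orderOf (normalizerMonoidHom (innS S) l))) : normalizerMonoidHom (innS S) l = 1 := by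
  haveI : Fact (Nat.Prime 2) := ⟨Nat.prime_two⟩
  exact eq_one_of_frattini (S.2.map _) _ hodd fun x =>
    QuotientGroup.eq.1 (MulEquiv.congr_fun h (QuotientGroup.mk x)).symm

theorem isSolvable_normalizerRange (h : Group.IsSolvable (frattiniHom S).range) :
    Group.IsSolvable (normalizerMonoidHom (innS S)).range := by
  set q : MulAut ↥(innS S) →* MulAut (↥(innS S) ⧸ frattini ↥(innS S)) :=
    (MonoidHom.snd _ _).comp (SolvableAut.resPair (frattini ↥(innS S))) with hq
  set r := q.comp (normalizerMonoidHom (innS S)).range.subtype with hr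
  refine ThreeInvol.solvable_of_ker_range r (ThreeInvol.solvable_of_odd_trivial fun m hm => ?_) ?_
  · obtain ⟨⟨_, l, rfl⟩, hl⟩ := m
    refine Subtype.ext (Subtype.ext (frattiniHom_eq_one S l hl ?_))
    rwa [← Subgroup.orderOf_coe, ← Subgroup.orderOf_coe] at hm
  · have hle : r.range ≤ (frattiniHom S).range := by
      rintro _ ⟨⟨_, l, rfl⟩, rfl⟩
      exact ⟨l, rfl⟩
    exact Group.isSolvable_of_isSolvable_injective (f := inclusion hle) (inclusion_injective hle)

theorem card_quotient_le {k : ℕ} (X : Finset ↥(S : Subgroup G)) (hX : X.card ≤ k)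
    (hgen : Subgroup.closure (X : Set ↥(S : Subgroup G)) = ⊤) :
    Nat.card (↥(innS S) ⧸ frattini ↥(innS S)) ≤ 2 ^ k := by
  haveI : Fact (Nat.Prime 2) := ⟨Nat.prime_two⟩
  set f := (MulAut.conj : G →* MulAut G).subgroupMap (S : Subgroup G) with hf
  have hsurj : Function.Surjective f := (MulAut.conj : G →* MulAut G).subgroupMap_surjective _
  have hgen' : closure ((X.image f : Finset ↥(innS S)) : Set ↥(innS S)) = ⊤ := by
    rw [Finset.coe_image, ← MonoidHom.map_closure, hgen, Subgroup.map_top_of_surjective f hsurj]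
  have h1 := PGroup.card_closure_sup_frattini_le (S.2.map _ : IsPGroup 2 ↥(innS S)) (X.image f)
  rw [hgen', top_sup_eq, Subgroup.card_top] at h1
  have h2 := (frattini ↥(innS S)).card_eq_card_quotient_mul_card_subgroup
  have h3 : 2 ^ (X.image f).card ≤ 2 ^ k :=
    Nat.pow_le_pow_right (by norm_num) (Finset.card_image_le.trans hX)
  refine le_trans (Nat.le_of_mul_le_mul_right ?_ (Nat.card_pos (α := frattini ↥(innS S)))) h3
  rw [← h2, mul_comm]
  exact h1

theorem card_perm_dvd {W : Type*} [Group W] [Finite W] :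
    Nat.card (MulAut W) ∣ Nat.factorial (Nat.card W - 1) := by
  let f : MulAut W →* Equiv.Perm {w : W // w ≠ 1} :=
    { toFun := fun φ => φ.toEquiv.subtypeEquiv fun w => (map_ne_one_iff _ φ.injective).symm
      map_one' := Equiv.ext fun w => rfl
      map_mul' := fun a b => Equiv.ext fun w => rfl }
  have hf : Function.Injective f := fun a b h => MulEquiv.ext fun w => by
    by_cases hw : w = 1
    · rw [hw, map_one, map_one]
    · exact congrArg Subtype.val (Equiv.congr_fun h ⟨w, hw⟩)
  have h1 := Subgroup.card_dvd_of_injective f hf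
  letI := Fintype.ofFinite W
  rwa [Nat.card_perm, Nat.card_eq_fintype_card (α := {w : W // w ≠ 1}), Fintype.card_subtype_compl,
    Fintype.card_subtype_eq, ← Nat.card_eq_fintype_card] at h1

include hG hFT hS1

/-- Part (a). -/
theorem isSolvable_out_two_gen (h : ∃ a b : ↥S, closure ({a, b} : Set ↥S) = ⊤) :
    Group.IsSolvable (Out G) := by
  obtain ⟨a, b, hab⟩ := h
  refine SylowCentralAut.isSolvable_out hG hFT (even_card S hS1) S (isSolvable_normalizerRange S ?_)
  have h4 := card_quotient_le S (k := 2) {a, b} Finset.card_le_two (by simpa using hab)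
  haveI : Group.IsSolvable (MulAut (↥(innS S) ⧸ frattini ↥(innS S))) :=
    SolvableAut.isSolvable_of_dvd_24 (card_perm_dvd.trans
      ((Nat.factorial_dvd_factorial (show _ ≤ 3 by norm_num at h4; omega)).trans (by decide)))
  infer_instance

omit hG hFT hS1 in
theorem card_mulAut_dvd_168 {W : Type u} [CommGroup W] [Finite W] (hsq : ∀ w : W, w * w = 1)
    (h8 : Nat.card W = 8) : Nat.card (MulAut W) ∣ 168 := by
  letI : Module (ZMod 2) (Additive W) := AddCommGroup.zmodModule fun x => by
    induction x using Additive.rec with | ofMul x => ?_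
    rw [two_nsmul, ← ofMul_mul, hsq]; rfl
  haveI : Module.Finite (ZMod 2) (Additive W) := Module.Finite.of_finite
  have hn : Module.finrank (ZMod 2) (Additive W) = 3 := by
    have h1 : Nat.card (Additive W) = 2 ^ Module.finrank (ZMod 2) (Additive W) := by
      rw [Module.natCard_eq_pow_finrank (K := ZMod 2), Nat.card_zmod]
    rw [show Nat.card (Additive W) = 8 from h8] at h1
    exact (Nat.pow_right_injective le_rfl (show 2 ^ 3 = _ from h1)).symm
  let b := Module.finBasisOfFinrankEq (ZMod 2) (Additive W) hn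
  let g : MulAut W →* (Additive W ≃ₗ[ZMod 2] Additive W) :=
    { toFun := fun φ => { (MulEquiv.toAdditive φ : Additive W ≃+ Additive W) with
        map_smul' := fun c x => ((φ.toMonoidHom.toAdditive).toZModLinearMap 2).map_smul c x }
      map_one' := LinearEquiv.ext fun x => rfl
      map_mul' := fun a b => LinearEquiv.ext fun x => rfl }
  have hg : Function.Injective g := fun a b h => MulEquiv.ext fun w =>
    congrArg Additive.toMul (LinearEquiv.congr_fun h (Additive.ofMul w))
  haveI := finite_equiv (V := Additive W)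
  refine (Subgroup.card_dvd_of_injective g hg).trans (dvd_of_eq ?_)
  let e : (Additive W ≃ₗ[ZMod 2] Additive W) ≃ GL (Fin 3) (ZMod 2) :=
    (LinearMap.GeneralLinearGroup.generalLinearEquiv (ZMod 2) (Additive W)).symm.toEquiv.trans
      (Units.mapEquiv (LinearMap.toMatrixAlgEquiv b).toMulEquiv).toEquiv
  rw [Nat.card_congr e, Matrix.card_GL_field]
  simp [Fin.prod_univ_three]

/-- Part (b). -/
theorem isSolvable_out_three_gen (h : ∃ a b c : ↥S, closure ({a, b, c} : Set ↥S) = ⊤)
    (hn : ∃ g ∈ normalizer ((S : Subgroup G) : Set G), Odd (orderOf g) ∧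
      g ∉ centralizer ((S : Subgroup G) : Set G)) : Group.IsSolvable (Out G) := by
  haveI : Fact (Nat.Prime 2) := ⟨Nat.prime_two⟩
  obtain ⟨a, b, c, habc⟩ := h
  obtain ⟨g, hgN, hgodd, hgC⟩ := hn
  refine SylowCentralAut.isSolvable_out hG hFT (even_card S hS1) S (isSolvable_normalizerRange S ?_)
  set W := ↥(innS S) ⧸ frattini ↥(innS S) with hW
  have hT2 : IsPGroup 2 ↥(innS S) := S.2.map _
  have h8 : Nat.card W ≤ 2 ^ 3 := card_quotient_le S {a, b, c} Finset.card_le_three (by simpa using habc)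
  by_cases hlt : Nat.card W ≤ 4
  · haveI : Group.IsSolvable (MulAut W) := SolvableAut.isSolvable_of_dvd_24 (card_perm_dvd.trans
      ((Nat.factorial_dvd_factorial (show _ ≤ 3 by omega)).trans (by decide)))
    infer_instance
  have hW8 : Nat.card W = 8 := by
    obtain ⟨k, hk⟩ := IsPGroup.iff_card.1 (hT2.to_quotient (frattini ↥(innS S)))
    rw [← hW] at hk
    have hk3 : k ≤ 3 := (Nat.pow_le_pow_iff_right (le_refl 2)).1 (hk ▸ h8)
    interval_cases k <;> omega
  have hWc : ∀ x y : W, x * y = y * x := fun x y => by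
    induction x using QuotientGroup.induction_on with | H x => ?_
    induction y using QuotientGroup.induction_on with | H y => ?_
    rw [← QuotientGroup.mk_mul, ← QuotientGroup.mk_mul, QuotientGroup.eq]
    have : x * y * (x * y)⁻¹ = 1 := mul_inv_cancel _
    have h1 : ⁅y⁻¹, x⁻¹⁆ ∈ frattini ↥(innS S) := PGroup.commutator_le_frattini hT2
      (commutator_mem_commutator (mem_top _) (mem_top _))
    simpa [commutatorElement_def, mul_assoc] using h1
  letI : CommGroup W := { (inferInstance : Group W) with mul_comm := hWc }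
  have h168 : Nat.card (MulAut W) ∣ 168 := card_mulAut_dvd_168 (fun w => by
    induction w using QuotientGroup.induction_on with | H w => ?_
    exact (QuotientGroup.eq_one_iff _).2 (by simpa [pow_two] using PGroup.pow_mem_frattini hT2 w)) hW8
  set M := (frattiniHom S).range with hM
  set L := normalizer (innS S : Set (MulAut G)) with hL
  set RL : Subgroup ↥L := (Inn G).subgroupOf L with hRL
  haveI : (Inn G).Normal := inferInstance
  haveI hRn : RL.Normal := Subgroup.normal_subgroupOf
  set R : Subgroup ↥M := RL.map (frattiniHom S).rangeRestrict with hR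
  haveI : R.Normal := hRn.map _ (frattiniHom S).rangeRestrict_surjective
  -- `R` has odd order
  have hRodd : Odd (Nat.card R) := by
    set f := (frattiniHom S).rangeRestrict.comp RL.subtype with hf
    have hfR : f.range = R := by rw [hf, MonoidHom.range_comp, range_subtype]
    have hker : ((innS S).subgroupOf L).subgroupOf RL ≤ f.ker := by
      rintro ⟨⟨x, hxL⟩, hxR⟩ hx
      refine MonoidHom.mem_ker.2 (Subtype.ext (MulEquiv.ext fun q => ?_))
      induction q using QuotientGroup.induction_on with | H y => ?_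
      show ((normalizerMonoidHom (innS S) ⟨x, hxL⟩ y : ↥(innS S)) : W) = (y : W)
      let x' : ↥(innS S) := ⟨x, hx⟩
      have e : normalizerMonoidHom (innS S) ⟨x, hxL⟩ y = x' * y * x'⁻¹ := Subtype.ext rfl
      rw [e, QuotientGroup.mk_mul, QuotientGroup.mk_mul, QuotientGroup.mk_inv, hWc (x' : W), mul_inv_cancel_right]
    refine Nat.odd_iff.2 (Nat.two_dvd_ne_zero.1 fun h2 => ?_)
    rw [← hfR, ← Subgroup.index_ker] at h2
    have h3 := h2.trans (Subgroup.index_dvd_of_le hker)
    have h4 : (((innS S).subgroupOf L).subgroupOf RL).index = (innS S).relIndex (Inn G ⊓ L) := by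
      show ((innS S).subgroupOf L).relIndex RL = _
      have hinf : ((Inn G ⊓ L).subgroupOf L) = RL := by rw [hRL, inf_subgroupOf_right]
      rw [← hinf, Subgroup.relIndex_subgroupOf inf_le_right]
    rw [h4] at h3
    obtain ⟨-, hTI, hTidx⟩ := innS_sylow hG S
    exact hTidx ((Subgroup.relIndex_mul_relIndex (innS S) (Inn G ⊓ L) (Inn G) (le_inf hTI le_normalizer) inf_le_left)
      ▸ h3.mul_right _)
  -- `R` is nontrivial
  have hRne : R ≠ ⊥ := by
    intro hbot
    have hgL : MulAut.conj g ∈ L := Subgroup.le_normalizer_map _ ⟨g, hgN, rfl⟩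
    have hmem : (frattiniHom S).rangeRestrict ⟨MulAut.conj g, hgL⟩ ∈ R :=
      ⟨⟨MulAut.conj g, hgL⟩, ⟨g, rfl⟩, rfl⟩
    rw [hbot, mem_bot] at hmem
    have h1 := frattiniHom_eq_one S ⟨MulAut.conj g, hgL⟩ (congrArg Subtype.val hmem)
      (hgodd.of_dvd_nat ((orderOf_map_dvd (normalizerMonoidHom (innS S)) _).trans
        ((Subgroup.orderOf_mk _ hgL).symm ▸ orderOf_map_dvd (MulAut.conj : G →* MulAut G) g)))
    refine hgC fun s hs => ?_
    have h2 := congrArg Subtype.val (MulEquiv.congr_fun h1 ⟨MulAut.conj s, mem_map_of_mem _ hs⟩)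
    have h3 : MulAut.conj g * MulAut.conj s * (MulAut.conj g)⁻¹ = MulAut.conj s := h2
    rw [← map_inv, ← map_mul, ← map_mul] at h3
    exact (mul_inv_eq_iff_eq_mul.1 (conj_injective hG h3)).symm
  haveI : Group.IsSolvable R := hFT _ hRodd
  haveI : Group.IsSolvable (↥M ⧸ R) := by
    have hdvd : Nat.card R * R.index ∣ 168 :=
      R.card_mul_index ▸ (Subgroup.card_subgroup_dvd_card M).trans h168
    have hidx : R.index ∣ 168 := (Dvd.intro_left _ rfl).trans hdvd
    have hcR : 2 ≤ Nat.card R := by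
      have := (Subgroup.nontrivial_iff_ne_bot R).2 hRne
      exact Finite.one_lt_card
    have hle : R.index ≤ 84 := by
      have := Nat.le_of_dvd (by norm_num) hdvd
      nlinarith
    exact A8Sub.isSolvable_of_card_le_hundred _ (by rw [← Subgroup.index_eq_card]; omega) (by
      rw [← Subgroup.index_eq_card]
      intro e
      rw [e] at hidx
      norm_num at hidx)
  exact Group.isSolvable_of_ker_le_range R.subtype (QuotientGroup.mk' R)
    (by rw [QuotientGroup.ker_mk', range_subtype])

/-- Part (c). -/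
theorem isSolvable_out_commuting
    (hcomm : ∀ s ∈ S, ∀ t ∈ S, orderOf s = 2 → orderOf t = 2 → s * t = t * s)
    (hconj : ∀ s ∈ S, ∀ t ∈ S, orderOf s = 2 → orderOf t = 2 → ∃ g : G, g * s * g⁻¹ = t) :
    Group.IsSolvable (Out G) := by
  haveI : Fact (Nat.Prime 2) := ⟨Nat.prime_two⟩
  refine SylowCentralAut.isSolvable_out hG hFT (even_card S hS1) S ?_
  have hord : ∀ x : G, x * x = 1 → x ≠ 1 → orderOf x = 2 := fun x hx hx1 =>
    orderOf_eq_prime (by rw [pow_two, hx]) hx1
  have hcomm' : ∀ s ∈ (S : Subgroup G), ∀ t ∈ (S : Subgroup G), s * s = 1 → t * t = 1 → s * t = t * s := by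
    intro s hs t ht hs2 ht2
    by_cases h1 : s = 1
    · rw [h1, one_mul, mul_one]
    by_cases h2 : t = 1
    · rw [h2, one_mul, mul_one]
    exact hcomm s hs t ht (hord s hs2 h1) (hord t ht2 h2)
  let E : Subgroup G :=
    { carrier := {x | x ∈ (S : Subgroup G) ∧ x * x = 1}
      one_mem' := ⟨one_mem _, one_mul 1⟩
      mul_mem' := fun {a b} ha hb => ⟨mul_mem ha.1 hb.1, by
        calc a * b * (a * b) = a * (b * a) * b := by group
          _ = a * a * (b * b) := by rw [← hcomm' a ha.1 b hb.1 ha.2 hb.2]; group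
          _ = 1 := by rw [ha.2, hb.2, one_mul]⟩
      inv_mem' := fun {a} ha => ⟨inv_mem ha.1, by rw [← mul_inv_rev, ha.2, inv_one]⟩ }
  have hEwc : IsWeaklyClosed E (S : Subgroup G) := by
    refine ⟨fun x hx => hx.1, fun g hle => ?_⟩
    refine eq_of_le_of_card_ge ?_ (card_map_of_injective (MulAut.conj g).injective).ge
    rintro _ ⟨x, hx, rfl⟩
    exact ⟨hle ⟨x, hx, rfl⟩, (map_mul (MulAut.conj g).toMonoidHom x x).symm.trans (by rw [hx.2, map_one])⟩
  set T := innS S with hT
  set Em := E.map (MulAut.conj : G →* MulAut G) with hEm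
  have hEmT : Em ≤ T := map_mono fun x hx => hx.1
  have hmemEm : ∀ t ∈ T, t * t = 1 → t ∈ Em := by
    rintro _ ⟨x, hx, rfl⟩ h
    exact ⟨x, ⟨hx, conj_injective hG (by rw [map_mul, map_one]; exact h)⟩, rfl⟩
  have hEm2 : ∀ t ∈ Em, t * t = 1 := by
    rintro _ ⟨x, hx, rfl⟩
    rw [← map_mul, hx.2, map_one]
  haveI : IsMulCommutative ↥Em := ⟨⟨fun a b => Subtype.ext (by
    obtain ⟨x, hx, hxa⟩ := a.2
    obtain ⟨y, hy, hyb⟩ := b.2
    show (a : MulAut G) * b = b * a
    rw [← hxa, ← hyb, ← map_mul, ← map_mul, hcomm' x hx.1 y hy.1 hx.2 hy.2])⟩⟩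
  set N := normalizer (Em : Set (MulAut G)) with hN
  set L := normalizer (T : Set (MulAut G)) with hL
  have hLN : L ≤ N := by
    intro l hl
    refine mem_normalizer_iff.2 fun x => ⟨fun hx => hmemEm _ ((mem_normalizer_iff.1 hl x).1 (hEmT hx)) ?_,
      fun hx => hmemEm x ((mem_normalizer_iff.1 hl x).2 (hEmT hx)) ?_⟩
    · calc l * x * l⁻¹ * (l * x * l⁻¹) = l * (x * x) * l⁻¹ := by group
        _ = 1 := by rw [hEm2 x hx]; group
    · calc x * x = l⁻¹ * (l * x * l⁻¹ * (l * x * l⁻¹)) * l := by group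
        _ = 1 := by rw [hEm2 _ hx]; group
  letI : Module (ZMod 2) (Additive ↥Em) := AddCommGroup.zmodModule fun x => by
    induction x using Additive.rec with | ofMul x => ?_
    have hx : x * x = 1 := Subtype.ext (hEm2 x.1 x.2)
    rw [two_nsmul, ← ofMul_mul, hx]; rfl
  let lin : MulAut ↥Em →* (Additive ↥Em ≃ₗ[ZMod 2] Additive ↥Em) :=
    { toFun := fun φ => { (MulEquiv.toAdditive φ : Additive ↥Em ≃+ Additive ↥Em) with
        map_smul' := fun c x => ((φ.toMonoidHom.toAdditive).toZModLinearMap 2).map_smul c x }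
      map_one' := LinearEquiv.ext fun x => rfl
      map_mul' := fun a b => LinearEquiv.ext fun x => rfl }
  have hlin : Function.Injective lin := fun a b h => MulEquiv.ext fun w =>
    congrArg Additive.toMul (LinearEquiv.congr_fun h (Additive.ofMul w))
  set Φ : ↥N →* (Additive ↥Em ≃ₗ[ZMod 2] Additive ↥Em) := lin.comp (normalizerMonoidHom Em) with hΦ
  obtain ⟨hT2, hTI, hTidx⟩ := innS_sylow hG S
  have hTN : T ≤ N := le_normalizer.trans hLN
  haveI : (Inn G).Normal := inferInstance
  haveI hIn : ((Inn G).subgroupOf N).Normal := Subgroup.normal_subgroupOf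
  set X := ((Inn G).subgroupOf N).map Φ with hX
  set SS := (T.subgroupOf N).map Φ with hSS
  set A := (L.subgroupOf N).map Φ with hA
  have hAX : A ≤ normalizer (X : Set (Additive ↥Em ≃ₗ[ZMod 2] Additive ↥Em)) := by
    rintro _ ⟨l, -, rfl⟩
    exact le_normalizer_map Φ ⟨l, by rw [normalizer_eq_top]; exact mem_top l, rfl⟩
  have hAS : A ≤ normalizer (SS : Set (Additive ↥Em ≃ₗ[ZMod 2] Additive ↥Em)) := by
    rintro _ ⟨l, hl, rfl⟩
    refine le_normalizer_map Φ ⟨l, ?_, rfl⟩
    refine mem_normalizer_iff.2 fun x => ?_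
    exact mem_normalizer_iff.1 hl (x : MulAut G)
  have hidx : ¬ 2 ∣ SS.relIndex X := by
    intro h
    apply hTidx
    have h1 : SS.relIndex X ∣ (T.subgroupOf N).relIndex ((Inn G).subgroupOf N) := by
      have h2 := Subgroup.index_map_dvd (H := (T.subgroupOf N).subgroupOf ((Inn G).subgroupOf N))
        (f := Φ.subgroupMap ((Inn G).subgroupOf N)) (Φ.subgroupMap_surjective _)
      have h3 : ((T.subgroupOf N).subgroupOf ((Inn G).subgroupOf N)).map (Φ.subgroupMap ((Inn G).subgroupOf N)) =
          SS.subgroupOf X := by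
        ext z
        constructor
        · rintro ⟨w, hw, rfl⟩
          exact ⟨w.1, hw, rfl⟩
        · rintro ⟨w, hw, hwz⟩
          exact ⟨⟨w, hTI hw⟩, hw, Subtype.ext hwz⟩
      rwa [h3] at h2
    have hinf : ((Inn G ⊓ N).subgroupOf N) = (Inn G).subgroupOf N := inf_subgroupOf_right _ _
    rw [← hinf, Subgroup.relIndex_subgroupOf inf_le_right] at h1
    exact (h.trans h1).trans (Dvd.intro (((Inn G) ⊓ N).relIndex (Inn G))
      (Subgroup.relIndex_mul_relIndex T (Inn G ⊓ N) (Inn G) (le_inf hTI hTN) inf_le_left))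
  have htrans : ∀ a b : Additive ↥Em, a ≠ 0 → b ≠ 0 → ∃ x ∈ X, x a = b := by
    intro a b ha hb
    obtain ⟨s, hs, hsa⟩ := (a.toMul).2
    obtain ⟨t, ht, htb⟩ := (b.toMul).2
    have hs1 : s ≠ 1 := fun e => ha (congrArg Additive.ofMul
      (Subtype.ext (hsa ▸ e ▸ map_one _) : a.toMul = 1))
    have ht1 : t ≠ 1 := fun e => hb (congrArg Additive.ofMul
      (Subtype.ext (htb ▸ e ▸ map_one _) : b.toMul = 1))
    obtain ⟨g, hg⟩ := hconj s hs.1 t ht.1 (hord s hs.2 hs1) (hord t ht.2 ht1)
    obtain ⟨c, hc, hcg⟩ := Transfer.exists_mul_mem_normalizer S hEwc (centralizer {t})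
      (fun w hw => mem_centralizer_singleton_iff.2 (hcomm' w hw.1 t ht.1 hw.2 ht.2))
      g (fun w hw => mem_centralizer_singleton_iff.2 (by
        rw [← hg, show g * w * g⁻¹ * (g * s * g⁻¹) = g * (w * s) * g⁻¹ by group,
          show g * s * g⁻¹ * (g * w * g⁻¹) = g * (s * w) * g⁻¹ by group, hcomm' w hw.1 s hs.1 hw.2 hs.2]))
    have hgN : MulAut.conj (c * g) ∈ N := le_normalizer_map _ ⟨c * g, hcg, rfl⟩
    refine ⟨Φ ⟨MulAut.conj (c * g), hgN⟩, ⟨⟨MulAut.conj (c * g), hgN⟩, ⟨c * g, rfl⟩, rfl⟩, ?_⟩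
    apply Additive.toMul.injective
    refine Subtype.ext ?_
    show MulAut.conj (c * g) * (a.toMul : MulAut G) * (MulAut.conj (c * g))⁻¹ = (b.toMul : MulAut G)
    rw [← hsa, ← htb, ← map_inv, ← map_mul, ← map_mul]
    congr 1
    rw [show c * g * s * (c * g)⁻¹ = c * (g * s * g⁻¹) * c⁻¹ by group, hg,
      mem_centralizer_singleton_iff.1 hc, mul_inv_cancel_right]
  haveI : Group.IsSolvable A := isSolvable_of_normalizes hFT X SS A htrans
    ((hT2.comap_subtype : IsPGroup 2 (T.subgroupOf N)).map Φ) (map_mono fun x hx => hTI hx) hidx hAX hAS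
  -- descend to the action on `T`
  set ν := normalizerMonoidHom T with hν
  set ε : ↥L →* (Additive ↥Em ≃ₗ[ZMod 2] Additive ↥Em) := Φ.comp (inclusion hLN) with hε
  haveI : Group.IsSolvable ε.range := by
    have hle : ε.range ≤ A := by
      rintro _ ⟨l, rfl⟩
      exact ⟨inclusion hLN l, l.2, rfl⟩
    exact Group.isSolvable_of_isSolvable_injective (f := inclusion hle) (inclusion_injective hle)
  haveI : Group.IsSolvable (ε.ker.map ν) := by
    refine isSolvable_fixInvolutions hFT hT2 (fun x y hx hy => ?_) _ ?_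
    · have h1 := hmemEm x.1 x.2 (congrArg Subtype.val hx)
      have h2 := hmemEm y.1 y.2 (congrArg Subtype.val hy)
      exact Subtype.ext (congrArg (fun z : ↥Em => (z : MulAut G)) (mul_comm' (⟨x.1, h1⟩ : ↥Em) ⟨y.1, h2⟩))
    · rintro _ ⟨l, hl, rfl⟩ x hx
      have h1 := hmemEm x.1 x.2 (congrArg Subtype.val hx)
      have hl' : normalizerMonoidHom Em (inclusion hLN l) = 1 := hlin (by
        rw [map_one]; exact MonoidHom.mem_ker.1 hl)
      exact Subtype.ext (congrArg (fun z : ↥Em => (z : MulAut G)) (MulEquiv.congr_fun hl' ⟨x.1, h1⟩))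
  haveI : Group.IsSolvable ν.ker := by
    haveI := isSolvable_centralizer hG hFT (even_card S hS1) S
    rw [hν, normalizerMonoidHom_ker]
    let e : (centralizer (T : Set (MulAut G))).subgroupOf L ≃* centralizer (T : Set (MulAut G)) :=
      subgroupOfEquivOfLe (centralizer_le_normalizer _)
    exact Group.isSolvable_of_isSolvable_injective (f := e.toMonoidHom) e.injective
  haveI : Group.IsSolvable ↥ε.ker := by
    refine ThreeInvol.solvable_of_ker_range (ν.comp ε.ker.subtype) ?_ ?_
    · let f : ↥(ν.comp ε.ker.subtype).ker →* ↥ν.ker :=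
        { toFun := fun x => ⟨x.1.1, x.2⟩, map_one' := rfl, map_mul' := fun _ _ => rfl }
      exact Group.isSolvable_of_isSolvable_injective (f := f) fun a b h =>
        Subtype.ext (Subtype.ext (congrArg (fun z : ↥ν.ker => z.1) h))
    · rw [MonoidHom.range_comp, range_subtype]; assumption
  haveI : Group.IsSolvable ↥L := ThreeInvol.solvable_of_ker_range ε inferInstance inferInstance
  exact Group.isSolvable_of_surjective ν.rangeRestrict_surjective

end Cfsg.Agent.OutSolvable
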