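import Mathlib.LinearAlgebra.Dual.Lemmas
import Mathlib.FieldTheory.Finiteness
import Mathlib.Data.ZMod.Basic
import Mathlib.Algebra.Field.ZMod
import Mathlib.RingTheory.Int.Basic

/-!
# An anisotropic quadratic map over `F₂`

`card_le_sq`: if `Q : V → W` has a bilinear polar map and vanishes only at `0`, then `|V| ≤ |W|²`.
-/

set_option autoImplicit false

namespace Cfsg.Agent.OutSolvable

open scoped Classical

/-- The sign of an element of `F₂`. -/
def sgn (a : ZMod 2) : ℤ := if a = 0 then 1 else -1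

theorem sgn_zero : sgn 0 = 1 := rfl

theorem sgn_add (a b : ZMod 2) : sgn (a + b) = sgn a * sgn b := by
  revert a b; decide

variable {V W : Type*} [AddCommGroup V] [Module (ZMod 2) V] [Fintype V] [AddCommGroup W]
  [Module (ZMod 2) W] [Fintype W]

theorem sum_sgn_linear (f : V →ₗ[ZMod 2] ZMod 2) :
    (Fintype.card V : ℤ) ∣ ∑ v, sgn (f v) := by
  by_cases h : ∀ v, f v = 0
  · exact ⟨1, by simp [h, sgn_zero]⟩
  · push Not at h
    obtain ⟨a, ha⟩ := h
    have ha1 : sgn (f a) = -1 := if_neg ha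
    refine ⟨0, ?_⟩
    have h1 : ∑ v, sgn (f v) = ∑ v, sgn (f (a + v)) :=
      (Equiv.sum_comp (Equiv.addLeft a) fun v => sgn (f v)).symm
    simp only [map_add, sgn_add, ← Finset.mul_sum, ha1] at h1
    omega

theorem dual_sum (w : W) [Fintype (Module.Dual (ZMod 2) W)] :
    ∑ l : Module.Dual (ZMod 2) W, sgn (l w) =
      if w = 0 then (Fintype.card (Module.Dual (ZMod 2) W) : ℤ) else 0 := by
  split_ifs with h
  · simp [h, sgn_zero]
  · obtain ⟨a, ha⟩ := not_forall.mp fun hall => h ((Module.forall_dual_apply_eq_zero_iff (ZMod 2) w).1 hall)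
    have ha1 : sgn (a w) = -1 := if_neg ha
    have h1 : ∑ l : Module.Dual (ZMod 2) W, sgn (l w) = ∑ l : Module.Dual (ZMod 2) W, sgn ((a + l) w) :=
      (Equiv.sum_comp (Equiv.addLeft a) fun l : Module.Dual (ZMod 2) W => sgn (l w)).symm
    simp only [LinearMap.add_apply, sgn_add, ← Finset.mul_sum, ha1] at h1
    omega

theorem card_dual (W : Type*) [AddCommGroup W] [Module (ZMod 2) W] [Finite W] :
    Nat.card (Module.Dual (ZMod 2) W) = Nat.card W := by
  rw [Module.natCard_eq_pow_finrank (K := ZMod 2), Module.natCard_eq_pow_finrank (K := ZMod 2) (V := W),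
    Subspace.dual_finrank_eq]

theorem card_le_sq (Q : V → W) (B : V →ₗ[ZMod 2] V →ₗ[ZMod 2] W)
    (hQ : ∀ u v, Q (u + v) = Q u + Q v + B u v) (haniso : ∀ v, Q v = 0 → v = 0) :
    Nat.card V ≤ Nat.card W ^ 2 := by
  haveI : Finite (Module.Dual (ZMod 2) W) := Finite.of_injective (fun f => (f : W → ZMod 2)) DFunLike.coe_injective
  letI := Fintype.ofFinite (Module.Dual (ZMod 2) W)
  have h2 : ∀ w : W, w + w = 0 := fun w => by
    rw [← two_smul (ZMod 2), show (2 : ZMod 2) = 0 from rfl, zero_smul]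
  have hV2 : ∀ v : V, v + v = 0 := fun v => by
    rw [← two_smul (ZMod 2), show (2 : ZMod 2) = 0 from rfl, zero_smul]
  have hQ0 : Q 0 = 0 := by
    have := hQ 0 0
    simp only [add_zero, map_zero, h2] at this
    exact this
  obtain ⟨m, hm⟩ : ∃ m, Nat.card V = 2 ^ m :=
    ⟨Module.finrank (ZMod 2) V, by rw [Module.natCard_eq_pow_finrank (K := ZMod 2), Nat.card_zmod]⟩
  obtain ⟨n, hn⟩ : ∃ n, Nat.card W = 2 ^ n :=
    ⟨Module.finrank (ZMod 2) W, by rw [Module.natCard_eq_pow_finrank (K := ZMod 2), Nat.card_zmod]⟩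
  rw [hm, hn, ← pow_mul]
  refine Nat.pow_le_pow_right (by norm_num) (Nat.le_of_not_lt fun hlt => ?_)
  -- the square of each exponential sum is divisible by `|V|`
  have hsum : ∀ l : Module.Dual (ZMod 2) W, (2 : ℤ) ^ (n + 1) ∣ ∑ v, sgn (l (Q v)) := by
    intro l
    have hsq : (2 : ℤ) ^ m ∣ (∑ v, sgn (l (Q v))) * (∑ v, sgn (l (Q v))) := by
      have h1 : (∑ v, sgn (l (Q v))) * (∑ v, sgn (l (Q v))) =
          ∑ u, sgn (l (Q u)) * ∑ v, sgn ((l.comp (B u)) v) := by
        calc (∑ v, sgn (l (Q v))) * (∑ v, sgn (l (Q v)))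
            = ∑ v, ∑ u, sgn (l (Q v)) * sgn (l (Q (u + v))) := by
              rw [Finset.sum_mul]
              refine Finset.sum_congr rfl fun v _ => ?_
              rw [Finset.mul_sum]
              exact (Equiv.sum_comp (Equiv.addRight v) fun u => sgn (l (Q v)) * sgn (l (Q u))).symm
          _ = ∑ u, sgn (l (Q u)) * ∑ v, sgn ((l.comp (B u)) v) := by
              rw [Finset.sum_comm]
              refine Finset.sum_congr rfl fun u _ => ?_
              rw [Finset.mul_sum]
              refine Finset.sum_congr rfl fun v _ => ?_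
              rw [← sgn_add, ← sgn_add, ← map_add, LinearMap.comp_apply, ← map_add, hQ]
              congr 2
              calc Q v + (Q u + Q v + B u v) = Q u + B u v + (Q v + Q v) := by abel
                _ = _ := by rw [h2, add_zero]
      rw [h1]
      refine Finset.dvd_sum fun u _ => Dvd.dvd.mul_left ?_ _
      have := sum_sgn_linear (l.comp (B u))
      rwa [← Nat.card_eq_fintype_card, hm, Nat.cast_pow, Nat.cast_ofNat] at this
    have h3 : (2 : ℤ) ^ (2 * n + 1) ∣ (∑ v, sgn (l (Q v))) * (∑ v, sgn (l (Q v))) :=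
      (pow_dvd_pow 2 (by omega)).trans hsq
    obtain ⟨s, hs⟩ : (2 : ℤ) ^ n ∣ ∑ v, sgn (l (Q v)) := by
      refine (Int.pow_dvd_pow_iff two_ne_zero).1 ?_
      rw [← pow_mul, pow_two]
      exact (pow_dvd_pow 2 (by omega)).trans h3
    rw [hs] at h3 ⊢
    rw [show (2 : ℤ) ^ n * s * (2 ^ n * s) = 2 ^ (2 * n) * (s * s) by ring, pow_succ] at h3
    have h4 := Int.dvd_of_mul_dvd_mul_left (by positivity) h3
    rw [pow_succ]
    exact mul_dvd_mul_left _ (((Prime.dvd_mul (Nat.prime_iff_prime_int.1 Nat.prime_two)).1 h4).elim id id)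
  have h5 : (∑ l : Module.Dual (ZMod 2) W, ∑ v, sgn (l (Q v))) = 2 ^ n := by
    rw [Finset.sum_comm]
    simp only [dual_sum]
    rw [Finset.sum_eq_single (0 : V) (fun v _ hv => if_neg fun h => hv (haniso v h))
      (fun h => absurd (Finset.mem_univ _) h), if_pos hQ0, ← Nat.card_eq_fintype_card, card_dual, hn]
    push_cast
    rfl
  have h6 : (2 : ℤ) ^ (n + 1) ∣ 2 ^ n := h5 ▸ Finset.dvd_sum fun l _ => hsum l
  have h7 := Int.le_of_dvd (by positivity) h6
  rw [pow_succ] at h7
  have : (0 : ℤ) < 2 ^ n := by positivity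
  omega

end Cfsg.Agent.OutSolvable
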