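import Mathlib.GroupTheory.Solvable
import Mathlib.Data.Fintype.Lattice
import Mathlib.Order.RelClasses
import Mathlib

/-!
# Finite groups without nontrivial perfect subgroups

`isSolvable_of_forall_perfect` and the triviality of abelian and solvable images of perfect groups.
-/

set_option autoImplicit false

namespace Cfsg.Agent.OutSolvable

/-- A finite group all whose perfect subgroups are trivial is solvable. -/
theorem isSolvable_of_forall_perfect {A : Type*} [Group A] [Finite A]
    (h : ∀ K : Subgroup A, _root_.commutator K = ⊤ → K = ⊥) : Group.IsSolvable A := by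
  obtain ⟨n, hn⟩ : ∃ n, derivedSeries A (n + 1) = derivedSeries A n := by
    by_contra hne
    push Not at hne
    have hlt : ∀ n, Nat.card (derivedSeries A (n + 1)) < Nat.card (derivedSeries A n) := fun n => by
      refine lt_of_le_of_ne (Subgroup.card_le_of_le (derivedSeries_antitone A (Nat.le_succ n))) fun e => ?_
      exact hne n (Subgroup.eq_of_le_of_card_ge (derivedSeries_antitone A (Nat.le_succ n)) e.ge)
    exact Nat.lt_irrefl _ (Nat.lt_of_lt_of_le (hlt (Nat.card A))
      (le_trans (by
        have : ∀ n, Nat.card (derivedSeries A n) + n ≤ Nat.card A := by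
          intro n
          induction n with
          | zero => simp [derivedSeries_zero]
          | succ n ih => have := hlt n; omega
        have := this (Nat.card A)
        omega : Nat.card (derivedSeries A (Nat.card A)) ≤ 0) (Nat.zero_le _)))
  refine ⟨n, h _ ?_⟩
  refine Subgroup.map_injective (derivedSeries A n).subtype_injective ?_
  rw [_root_.commutator_def, Subgroup.map_commutator, ← MonoidHom.range_eq_map, Subgroup.range_subtype]
  exact hn

/-- A perfect group maps trivially to commuting elements. -/
theorem eq_one_of_commute {K M : Type*} [Group K] [Group M] (hK : _root_.commutator K = ⊤) (f : K →* M)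
    (hc : ∀ a b, f a * f b = f b * f a) (k : K) : f k = 1 := by
  have hle : _root_.commutator K ≤ f.ker := by
    rw [_root_.commutator_def, Subgroup.commutator_le]
    intro a _ b _
    rw [MonoidHom.mem_ker, commutatorElement_def, map_mul, map_mul, map_mul, map_inv, map_inv, hc a b]
    group
  exact MonoidHom.mem_ker.1 (hle (hK ▸ Subgroup.mem_top k))

/-- A perfect group maps trivially into a solvable one. -/
theorem eq_one_of_solvable {K M : Type*} [Group K] [Group M] (hK : _root_.commutator K = ⊤) (f : K →* M)
    [Group.IsSolvable M] (k : K) : f k = 1 := by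
  obtain ⟨n, hn⟩ := Group.IsSolvable.solvable (G := M)
  have hd : ∀ n, derivedSeries K n = ⊤ := by
    intro n
    induction n with
    | zero => rfl
    | succ n ih => rw [derivedSeries_succ, ih]; exact hK
  have h1 : f k ∈ derivedSeries M n :=
    map_derivedSeries_le_derivedSeries f n (Subgroup.mem_map_of_mem f (hd n ▸ Subgroup.mem_top k))
  rwa [hn, Subgroup.mem_bot] at h1

end Cfsg.Agent.OutSolvable
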