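import Cfsg.Agent.Lib.OutSolvable.AnisoCount
import Cfsg.Agent.Lib.OutSolvable.Perfect
import Cfsg.Agent.Lib.FTConsumers.Hyp
import Mathlib

/-!
# A perfect group preserving an anisotropic quadratic map

`false_of_aniso`: a perfect group cannot act irreducibly and nontrivially on a finite `F₂`-space `V`
preserving a quadratic map `Q : V → W` whose only zero is `0`.
-/

set_option autoImplicit false
set_option linter.style.haveILetI false

namespace Cfsg.Agent.OutSolvable

open scoped Classical

universe u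

variable {K : Type u} [Group K] [Finite K] {V : Type u} [AddCommGroup V] [Module (ZMod 2) V] [Finite V]

set_option maxHeartbeats 1000000 in
theorem false_of_aniso_span (hFT : FTConsumers.OddOrder.{u}) {W : Type u} [AddCommGroup W] [Module (ZMod 2) W] [Finite W]
    (hperf : _root_.commutator K = ⊤) (ρ : K →* Module.End (ZMod 2) V) (hne : ∃ k, ρ k ≠ 1)
    (hirr : ∀ U : Submodule (ZMod 2) V, (∀ k, ∀ u ∈ U, ρ k u ∈ U) → U = ⊥ ∨ U = ⊤)
    (Q : V → W) (B : V →ₗ[ZMod 2] V →ₗ[ZMod 2] W)
    (hQ : ∀ u v, Q (u + v) = Q u + Q v + B u v) (haniso : ∀ v, Q v = 0 → v = 0)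
    (hinv : ∀ k v, Q (ρ k v) = Q v) (hspan : Submodule.span (ZMod 2) (Set.range Q) = ⊤) : False := by
  obtain ⟨k0, hk0⟩ := hne
  have hV2 : ∀ v : V, v + v = 0 := fun v => by
    rw [← two_smul (ZMod 2), show (2 : ZMod 2) = 0 from rfl, zero_smul]
  have hW2 : ∀ w : W, w + w = 0 := fun w => by
    rw [← two_smul (ZMod 2), show (2 : ZMod 2) = 0 from rfl, zero_smul]
  haveI : Nontrivial V := by
    by_contra hn
    rw [not_nontrivial_iff_subsingleton] at hn
    exact hk0 (LinearMap.ext fun v => Subsingleton.elim _ _)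
  haveI : Finite (Module.End (ZMod 2) V) :=
    Finite.of_injective (fun f => (f : V → V)) DFunLike.coe_injective
  have hQ0 : Q 0 = 0 := by
    have := hQ 0 0
    simp only [add_zero, map_zero, hW2] at this
    exact this
  have hBself : ∀ v, B v v = 0 := fun v => by
    have := hQ v v
    rw [hV2, hQ0, hW2, zero_add] at this
    exact this.symm
  have hBsymm : ∀ u v, B u v = B v u := fun u v => by
    have h1 := hBself (u + v)
    simp only [map_add, LinearMap.add_apply, hBself, zero_add, add_zero] at h1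
    rw [← add_right_cancel_iff (a := B v u), hW2, add_comm, h1]
  have hsurj : ∀ k w, ∃ w', ρ k w' = w := fun k w => ⟨ρ k⁻¹ w, by
    rw [← Module.End.mul_apply, ← map_mul, mul_inv_cancel, map_one, Module.End.one_apply]⟩
  have hBinv : ∀ k u v, B (ρ k u) (ρ k v) = B u v := fun k u v => by
    have h1 := hQ (ρ k u) (ρ k v)
    rw [← map_add, hinv, hinv, hinv, hQ u v] at h1
    exact (add_left_cancel h1).symm
  -- invariant linear forms on `V` are trivial
  let φ : Module.Dual (ZMod 2) W → (V →ₗ[ZMod 2] Module.Dual (ZMod 2) V) := fun l =>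
    B.compr₂ l
  have hφ : ∀ l u v, φ l u v = l (B u v) := fun l u v => rfl
  have hφinj : ∀ l, φ l = 0 → l = 0 := by
    intro l hl
    have hadd : ∀ u v, l (Q (u + v)) = l (Q u) + l (Q v) := fun u v => by
      rw [hQ, map_add, map_add, show l (B u v) = φ l u v from rfl, hl]; simp
    let U : Submodule (ZMod 2) V :=
      { carrier := {v | l (Q v) = 0}
        add_mem' := fun {a b} ha hb => by
          show l (Q (a + b)) = 0
          rw [hadd]; simp only [Set.mem_setOf_eq] at ha hb; rw [ha, hb, add_zero]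
        zero_mem' := by show l (Q 0) = 0; rw [hQ0, map_zero]
        smul_mem' := fun c v hv => by
          rcases (show ∀ c : ZMod 2, c = 0 ∨ c = 1 by decide) c with rfl | rfl
          · show l (Q ((0 : ZMod 2) • v)) = 0
            rw [zero_smul, hQ0, map_zero]
          · show l (Q ((1 : ZMod 2) • v)) = 0
            rw [one_smul]; exact hv }
    have hUt : U = ⊤ := by
      refine (hirr U fun k u hu => ?_).resolve_left fun hb => hk0 (LinearMap.ext fun v => ?_)
      · show l (Q (ρ k u)) = 0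
        rw [hinv]; exact hu
      · have h1 : ρ k0 v + v ∈ U := by
          show l (Q (ρ k0 v + v)) = 0
          rw [hadd, hinv, ← map_add, hW2, map_zero]
        rw [hb, Submodule.mem_bot] at h1
        rw [Module.End.one_apply, ← add_right_cancel_iff (a := v), h1, hV2]
    refine LinearMap.ext_on_range hspan fun v => ?_
    exact (hUt.ge (Submodule.mem_top (x := v)) :)
  -- the centralising ring
  set D := Subring.centralizer (Set.range fun k => ρ k) with hD
  have hmemD : ∀ x : Module.End (ZMod 2) V, x ∈ D ↔ ∀ k v, x (ρ k v) = ρ k (x v) := by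
    intro x
    rw [hD, Subring.mem_centralizer_iff]
    constructor
    · intro h k v; exact (LinearMap.congr_fun (h _ ⟨k, rfl⟩) v).symm
    · rintro h _ ⟨k, rfl⟩; exact LinearMap.ext fun v => (h k v).symm
  have hDinj : ∀ x ∈ D, x ≠ 0 → ∀ v, x v = 0 → v = 0 := by
    intro x hx hx0 v hv
    rcases hirr (LinearMap.ker x) (fun k u hu => by
      rw [LinearMap.mem_ker] at hu ⊢; rw [(hmemD x).1 hx k u, hu, map_zero]) with hb | ht
    · exact (Submodule.mem_bot (R := ZMod 2)).1 (hb ▸ LinearMap.mem_ker.2 hv)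
    · exact absurd (LinearMap.ker_eq_top.1 ht) hx0
  haveI : NoZeroDivisors ↥D := ⟨fun {a b} h => by
    by_cases ha : (a : Module.End (ZMod 2) V) = 0
    · exact Or.inl (Subtype.ext ha)
    · refine Or.inr (Subtype.ext (LinearMap.ext fun v => hDinj _ a.2 ha _ ?_))
      exact LinearMap.congr_fun (congrArg Subtype.val h) v⟩
  haveI : IsDomain ↥D := NoZeroDivisors.to_isDomain _
  letI : Field ↥D := (Finite.isDomain_to_isField ↥D).toField
  letI := Fintype.ofFinite ↥D
  have hsmul : ∀ (c : ↥D) (v : V), c • v = (c : Module.End (ZMod 2) V) v := fun c v => rfl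
  have hD2 : ∀ c : ↥D, c + c = 0 := fun c => Subtype.ext (LinearMap.ext fun v => hV2 _)
  haveI : FiniteDimensional ↥D V := Module.Finite.of_finite
  -- dual maps land in `D`
  obtain ⟨v1, hv1⟩ := exists_ne (0 : V)
  obtain ⟨l0, hl0⟩ : ∃ l0 : Module.Dual (ZMod 2) W, l0 ≠ 0 := by
    obtain ⟨l, hl⟩ := not_forall.mp fun hall =>
      hv1 (haniso v1 ((Module.forall_dual_apply_eq_zero_iff (ZMod 2) (Q v1)).1 hall))
    exact ⟨l, fun e => hl (by rw [e]; rfl)⟩
  have hφ0inj : ∀ v, φ l0 v = 0 → v = 0 := by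
    intro v hv
    rcases hirr (LinearMap.ker (φ l0)) (fun k u hu => by
      rw [LinearMap.mem_ker] at hu ⊢
      refine LinearMap.ext fun w => ?_
      obtain ⟨w', rfl⟩ := hsurj k w
      rw [hφ, hBinv, ← hφ, hu]; rfl) with hb | ht
    · exact (Submodule.mem_bot (R := ZMod 2)).1 (hb ▸ LinearMap.mem_ker.2 hv)
    · exact absurd (hφinj l0 (LinearMap.ker_eq_top.1 ht)) hl0
  have hinj' : Function.Injective (φ l0) :=
    LinearMap.ker_eq_bot.1 (LinearMap.ker_eq_bot'.2 hφ0inj)
  let e : V ≃ₗ[ZMod 2] Module.Dual (ZMod 2) V :=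
    LinearMap.linearEquivOfInjective (φ l0) hinj' Subspace.dual_finrank_eq.symm
  have he : ∀ v, e v = φ l0 v := fun v => LinearMap.linearEquivOfInjective_apply _ _ v
  let xl : Module.Dual (ZMod 2) W → Module.End (ZMod 2) V := fun l => e.symm.toLinearMap.comp (φ l)
  have hxl : ∀ l u w, l (B u w) = l0 (B (xl l u) w) := fun l u w => by
    rw [← hφ, ← hφ, ← he]
    show φ l u w = e (e.symm (φ l u)) w
    rw [LinearEquiv.apply_symm_apply]
  have hxlD : ∀ l, xl l ∈ D := fun l => (hmemD _).2 fun k v => by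
    apply hinj'
    refine LinearMap.ext fun w => ?_
    obtain ⟨w', rfl⟩ := hsurj k w
    rw [hφ, hφ, hBinv, ← hxl, hBinv, hxl]
  have hxlinj : Function.Injective fun l => (⟨xl l, hxlD l⟩ : ↥D) := by
    intro l l' h
    have h' : xl l = xl l' := congrArg Subtype.val h
    have hsub : φ (l - l') = 0 := LinearMap.ext fun u => LinearMap.ext fun w => by
      show l (B u w) - l' (B u w) = 0
      rw [hxl, hxl l', h', sub_self]
    exact sub_eq_zero.1 (hφinj _ hsub)
  haveI : Finite (Module.Dual (ZMod 2) W) := Finite.of_injective (fun f => (f : W → ZMod 2)) DFunLike.coe_injective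
  have hWD : Nat.card W ≤ Nat.card ↥D := card_dual W ▸ Nat.card_le_card_of_injective _ hxlinj
  letI := Fintype.ofFinite V
  letI := Fintype.ofFinite W
  have hVW := card_le_sq Q B hQ haniso
  have hcard : Nat.card V = Nat.card ↥D ^ Module.finrank ↥D V := Module.natCard_eq_pow_finrank
  have hDgt : 1 < Nat.card ↥D := Finite.one_lt_card
  have hd2 : Module.finrank ↥D V ≤ 2 := by
    have h1 : Nat.card ↥D ^ Module.finrank ↥D V ≤ Nat.card ↥D ^ 2 :=
      hcard ▸ hVW.trans (Nat.pow_le_pow_left hWD 2)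
    exact (Nat.pow_le_pow_iff_right hDgt).1 h1
  have hlin : ∀ k (c : ↥D) v, ρ k (c • v) = c • ρ k v := fun k c v => ((hmemD _).1 c.2 k v).symm
  have hd1 : Module.finrank ↥D V ≠ 1 := by
    intro h1
    obtain ⟨v0, hv0, hbasis⟩ := finrank_eq_one_iff'.1 h1
    have h1' : ρ.toHomUnits k0 = 1 := eq_one_of_commute hperf ρ.toHomUnits (fun a b => Units.ext ?_) k0
    · exact hk0 (by simpa using congrArg Units.val h1')
    simp only [Units.val_mul, MonoidHom.coe_toHomUnits]
    refine LinearMap.ext fun v => ?_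
    obtain ⟨c, rfl⟩ := hbasis v
    obtain ⟨ca, hca⟩ := hbasis (ρ a v0)
    obtain ⟨cb, hcb⟩ := hbasis (ρ b v0)
    simp only [Module.End.mul_apply, hlin, ← hca, ← hcb, smul_smul]
    rw [mul_assoc, mul_comm cb ca, ← mul_assoc]
  have hd : Module.finrank ↥D V = 2 := by
    have h0 : Module.finrank ↥D V ≠ 0 := by
      intro h0; rw [h0, pow_zero] at hcard
      exact absurd hcard (Finite.one_lt_card (α := V)).ne'
    omega
  have hWDeq : Nat.card ↥D ≤ Nat.card W := by
    rw [hd] at hcard
    exact (Nat.pow_le_pow_iff_left two_ne_zero).1 (hcard ▸ hVW)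
  have hxlsurj : Function.Surjective fun l => (⟨xl l, hxlD l⟩ : ↥D) := by
    refine ((Nat.bijective_iff_injective_and_card _).2 ⟨hxlinj, ?_⟩).2
    rw [card_dual]; omega
  -- `B` commutes with `D`
  have halt : ∀ (c : ↥D) u, l0 (B (c • u) u) = 0 := fun c u => by
    obtain ⟨l, rfl⟩ := hxlsurj c
    rw [hsmul, ← hxl, hBself, map_zero]
  have hadj0 : ∀ (c : ↥D) u w, l0 (B (c • u) w) = l0 (B u (c • w)) := fun c u w => by
    have h1 := halt c (u + w)
    simp only [smul_add, map_add, LinearMap.add_apply, halt, zero_add, add_zero] at h1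
    rw [hBsymm u (c • w)]
    exact CharTwo.add_eq_zero.1 ((add_comm _ _).trans h1)
  have hadj : ∀ (c : ↥D) u w, B (c • u) w = B u (c • w) := fun c u w => by
    rw [← sub_eq_zero, ← Module.forall_dual_apply_eq_zero_iff (ZMod 2)]
    intro l
    let a : ↥D := ⟨xl l, hxlD l⟩
    have ha : ∀ x y, l (B x y) = l0 (B (a • x) y) := fun x y => hxl l x y
    rw [map_sub, ha, ha, smul_comm a c, hadj0 c (a • u) w, sub_self]
  have halt' : ∀ (c : ↥D) u, B (c • u) u = 0 := fun c u => by
    rw [← Module.forall_dual_apply_eq_zero_iff (ZMod 2)]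
    intro l
    let a : ↥D := ⟨xl l, hxlD l⟩
    have ha : ∀ x y, l (B x y) = l0 (B (a • x) y) := fun x y => hxl l x y
    rw [ha, smul_smul, halt]
  -- the image of `K`
  set M := ρ.toHomUnits.range with hM
  haveI : Fact (Nat.Prime 2) := ⟨Nat.prime_two⟩
  have hkM : ∀ f : K →* M, ∀ (hc : ∀ a b, f a * f b = f b * f a), ∀ k, f k = 1 := eq_one_of_commute hperf
  have hMne : ρ.toHomUnits.rangeRestrict k0 ≠ 1 := fun e => hk0 (by
    have := congrArg (fun x : M => ((x : (Module.End (ZMod 2) V)ˣ) : Module.End (ZMod 2) V)) e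
    simpa using this)
  let S : Sylow 2 M := default
  set σ : ↥(S : Subgroup M) →* Module.End (ZMod 2) V :=
    ((Units.coeHom (Module.End (ZMod 2) V)).comp M.subtype).comp (S : Subgroup M).subtype with hσ
  have hσk : ∀ s, ∃ k, σ s = ρ k := fun s => by
    obtain ⟨k, hk⟩ := (s : M).2
    exact ⟨k, (congrArg Units.val hk.symm).trans (MonoidHom.coe_toHomUnits ρ k)⟩
  obtain ⟨u, hu, hu0⟩ : ∃ u, (∀ s, σ s u = u) ∧ u ≠ 0 := by
    letI act : MulAction ↥(S : Subgroup M) V := MulAction.compHom V σ
    obtain ⟨u, hu, hu0⟩ := S.2.exists_fixed_point_of_prime_dvd_card_of_fixed_point (α := V) (by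
        obtain ⟨m, hm⟩ : ∃ m, Nat.card V = 2 ^ m :=
          ⟨Module.finrank (ZMod 2) V, by rw [Module.natCard_eq_pow_finrank (K := ZMod 2), Nat.card_zmod]⟩
        rw [hm]
        exact dvd_pow_self 2 fun h0 => by rw [h0] at hm; exact (Finite.one_lt_card (α := V)).ne' hm)
      (a := (0 : V)) (fun s => (σ s).map_zero)
    exact ⟨u, fun s => hu s, Ne.symm hu0⟩
  have hu0' : u ≠ 0 := hu0
  obtain ⟨v0, hv0⟩ : ∃ v0, v0 ∉ Submodule.span ↥D {u} := by
    by_contra hall
    push Not at hall
    have := finrank_span_singleton (K := ↥D) hu0'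
    rw [show Submodule.span ↥D {u} = ⊤ from top_unique fun v _ => hall v, finrank_top, hd] at this
    omega
  have hli : LinearIndependent ↥D ![u, v0] :=
    (LinearIndependent.pair_iff' hu0').2 fun a ha => hv0 (ha ▸ Submodule.smul_mem _ a (Submodule.mem_span_singleton_self u))
  let bas := basisOfLinearIndependentOfCardEqFinrank hli (by rw [hd]; rfl)
  have hrepr : ∀ v, ∃ a b : ↥D, v = a • u + b • v0 := fun v => ⟨bas.repr v 0, bas.repr v 1, by
    conv_lhs => rw [← bas.sum_repr v]
    rw [Fin.sum_univ_two, coe_basisOfLinearIndependentOfCardEqFinrank]; rfl⟩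
  have hSlin : ∀ (s : ↥(S : Subgroup M)) (c : ↥D) v, σ s (c • v) = c • σ s v := fun s c v => by
    obtain ⟨k, hk⟩ := hσk s
    rw [hk]
    exact hlin k c v
  have hSadd : ∀ (s : ↥(S : Subgroup M)) v w, σ s (v + w) = σ s v + σ s w := fun s v w => map_add _ v w
  have hSQ : ∀ (s : ↥(S : Subgroup M)) v, Q (σ s v) = Q v := fun s v => by
    obtain ⟨k, hk⟩ := hσk s
    rw [hk, hinv]
  have hsv0 : ∀ s : ↥(S : Subgroup M), ∃ a : ↥D, σ s v0 = v0 + a • u := by
    intro s
    obtain ⟨a, b, hab⟩ := hrepr (σ s v0)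
    have hiter : ∀ j : ℕ, ∃ c : ↥D, (σ s ^ j) v0 = c • u + b ^ j • v0 := by
      intro j
      induction j with
      | zero => exact ⟨0, by simp⟩
      | succ j ih =>
        obtain ⟨c, hc⟩ := ih
        exact ⟨c + b ^ j * a, by
          rw [pow_succ', Module.End.mul_apply, hc, hSadd, hSlin, hSlin, hab, hu s, smul_add, smul_smul, smul_smul,
            add_smul, pow_succ, ← add_assoc]⟩
    obtain ⟨j, hj⟩ := S.2 s
    obtain ⟨c, hc⟩ := hiter (2 ^ j)
    rw [← map_pow, hj, map_one, Module.End.one_apply] at hc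
    have hb : b ^ 2 ^ j = 1 := by
      by_contra hb
      refine hv0 (Submodule.mem_span_singleton.2 ⟨c / (1 - b ^ 2 ^ j), ?_⟩)
      have h1 : (1 - b ^ 2 ^ j) • v0 = c • u := by rw [sub_smul, one_smul, sub_eq_iff_eq_add, ← hc]
      rw [div_eq_inv_mul, mul_smul, ← h1, smul_smul, inv_mul_cancel₀ (sub_ne_zero.2 (Ne.symm hb)), one_smul]
    haveI : CharP ↥D 2 := CharTwo.of_one_ne_zero_of_two_eq_zero one_ne_zero (one_add_one_eq_two.symm.trans (hD2 1))
    have hb1 : b = 1 := by
      have h1 : (b - 1) ^ 2 ^ j = 0 := by rw [sub_pow_char_pow, hb, one_pow, sub_self]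
      exact sub_eq_zero.1 (eq_zero_of_pow_eq_zero h1)
    exact ⟨a, by rw [hab, hb1, one_smul, add_comm]⟩
  choose af haf using hsv0
  have hafinj : Function.Injective af := by
    intro s s' h
    refine Subtype.ext (Subtype.ext (Units.ext (LinearMap.ext fun v => ?_)))
    show σ s v = σ s' v
    obtain ⟨a, b, rfl⟩ := hrepr v
    rw [hSadd, hSadd, hSlin, hSlin, hSlin, hSlin, hu, hu, haf, haf, h]
  have heq : ∀ s (c : ↥D), Q ((c * af s) • u) + B (c • v0) ((c * af s) • u) = 0 := by
    intro s c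
    have h1 := hSQ s (c • v0)
    rw [hSlin, haf, smul_add, smul_smul, hQ, add_assoc, add_eq_left] at h1
    exact h1
  have hS2 : Nat.card ↥(S : Subgroup M) ≤ 2 := by
    by_contra hlt
    letI := Fintype.ofFinite ↥(S : Subgroup M)
    rw [Nat.card_eq_fintype_card, not_le, Fintype.two_lt_card_iff] at hlt
    obtain ⟨x, y, z, hxy, hxz, hyz⟩ := hlt
    have haf1 : af 1 = 0 := by
      have h := haf 1
      rw [map_one, Module.End.one_apply, left_eq_add] at h
      exact (smul_eq_zero.1 h).resolve_right hu0'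
    obtain ⟨s, t, hst, hs, ht⟩ : ∃ s t, s ≠ t ∧ af s ≠ 0 ∧ af t ≠ 0 := by
      have h0 : ∀ w, af w = 0 → w = 1 := fun w hw => hafinj (hw.trans haf1.symm)
      by_cases hx : af x = 0
      · exact ⟨y, z, hyz, fun h => hxy ((h0 x hx).trans (h0 y h).symm), fun h => hxz ((h0 x hx).trans (h0 z h).symm)⟩
      · by_cases hy : af y = 0
        · exact ⟨x, z, hxz, hx, fun h => hyz ((h0 y hy).trans (h0 z h).symm)⟩
        · exact ⟨x, y, hxy, hx, hy⟩
    set r := af t / af s with hr
    have hr1 : r + 1 ≠ 0 := by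
      intro h
      have : r = 1 := add_right_cancel (h.trans (hD2 1).symm)
      rw [hr, div_eq_one_iff_eq hs] at this
      exact hst (hafinj this.symm)
    have hr0 : r ≠ 0 := div_ne_zero ht hs
    have hkey : ∀ d : ↥D, B v0 (d • u) = 0 := by
      intro d
      haveI : CharP ↥D 2 := CharTwo.of_one_ne_zero_of_two_eq_zero one_ne_zero (one_add_one_eq_two.symm.trans (hD2 1))
      obtain ⟨c, hc⟩ := ((Finite.injective_iff_bijective).1 (frobenius_inj ↥D 2)).2 (d / (r * (r + 1) * af s))
      have hc' : c ^ 2 = d / (r * (r + 1) * af s) := hc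
      have e1 := heq s (c * r)
      have e2 := heq t c
      rw [show c * af t = c * r * af s by rw [hr, mul_assoc, div_mul_cancel₀ _ hs]] at e2
      have h3 := add_left_cancel (e1.trans e2.symm)
      have h4 : B ((c * r + c) • v0) ((c * r * af s) • u) = 0 := by
        rw [add_smul, map_add, LinearMap.add_apply, h3, hW2]
      rw [hadj, smul_smul] at h4
      rwa [show (c * r + c) * (c * r * af s) = d by
        calc _ = c ^ 2 * (r * (r + 1) * af s) := by ring
          _ = d := by rw [hc', div_mul_cancel₀ _ (mul_ne_zero (mul_ne_zero hr0 hr1) hs)]] at h4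
    refine hu0' (hφ0inj u (LinearMap.ext fun v => ?_))
    obtain ⟨a, b, rfl⟩ := hrepr v
    rw [hφ, map_add, hBsymm u (a • u), halt' a u, zero_add, hBsymm, hadj, hkey, map_zero]
    rfl
  have hne2 : Nat.card ↥(S : Subgroup M) ≠ 2 := by
    intro h
    have hcyc : IsCyclic ↥(S : Subgroup M) := isCyclic_of_prime_card h
    haveI := hcyc
    have hN : Subgroup.normalizer ((S : Subgroup M) : Set M) ≤ Subgroup.centralizer ((S : Subgroup M) : Set M) := by
      intro n hn x hx
      have h1 := (Subgroup.mem_normalizer_iff.1 hn x).1 hx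
      by_cases hx1 : x = 1
      · rw [hx1, one_mul, mul_one]
      · have hall : ∀ y ∈ (S : Subgroup M), y ≠ 1 → y = x := by
          intro y hy hy1
          obtain ⟨a, b, hab, huniv⟩ := Nat.card_eq_two_iff.1 h
          have hm : ∀ w : ↥(S : Subgroup M), w = a ∨ w = b := fun w => by
            have := huniv.ge (Set.mem_univ w); simpa using this
          rcases hm ⟨y, hy⟩ with p | p <;> rcases hm ⟨x, hx⟩ with q | q <;> rcases hm 1 with o | o
          all_goals first
            | exact congrArg Subtype.val (p.trans q.symm)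
            | exact absurd (congrArg Subtype.val (p.trans o.symm)) hy1
            | exact absurd (congrArg Subtype.val (q.trans o.symm)) hx1
        have h2 := hall _ h1 fun e => hx1 (by simpa [mul_assoc] using congrArg (fun w => n⁻¹ * w * n) e)
        exact (mul_inv_eq_iff_eq_mul.1 h2).symm
    have hcompl := MonoidHom.ker_transferSylow_isComplement' S hN
    set T := MonoidHom.transferSylow S hN with hT
    have hcomm : IsMulCommutative ↥(S : Subgroup M) := inferInstance
    have h1 : ρ.toHomUnits.rangeRestrict k0 ∈ T.ker :=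
      MonoidHom.mem_ker.2 (eq_one_of_commute hperf (T.comp ρ.toHomUnits.rangeRestrict)
        (fun a b => hcomm.is_comm.comm _ _) k0)
    have htop : T.ker = ⊤ := by
      rw [eq_top_iff]
      rintro ⟨_, k, rfl⟩ -
      exact MonoidHom.mem_ker.2 (eq_one_of_commute hperf (T.comp ρ.toHomUnits.rangeRestrict)
        (fun a b => hcomm.is_comm.comm _ _) k)
    rw [htop] at hcompl
    have := Subgroup.isComplement'_top_left.1 hcompl
    rw [this, Subgroup.card_bot] at h
    omega
  rcases Nat.le_one_iff_eq_zero_or_eq_one.1 (Nat.le_of_lt_succ (Nat.lt_of_le_of_ne hS2 hne2)) with h | h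
  · exact Nat.card_pos.ne' h
  · -- odd image
    haveI : Group.IsSolvable ↥M := hFT ↥M (Nat.odd_iff.2 (Nat.two_dvd_ne_zero.1 fun h2 => by
      obtain ⟨x, hx⟩ := exists_prime_orderOf_dvd_card' (G := ↥M) 2 h2
      have := S.dvd_card_of_dvd_card h2
      omega))
    exact hMne (eq_one_of_solvable hperf _ k0)

/-- A perfect group does not act irreducibly and nontrivially preserving an anisotropic quadratic map. -/
theorem false_of_aniso (hFT : FTConsumers.OddOrder.{u}) {W : Type u} [AddCommGroup W] [Module (ZMod 2) W] [Finite W]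
    (hperf : _root_.commutator K = ⊤) (ρ : K →* Module.End (ZMod 2) V) (hne : ∃ k, ρ k ≠ 1)
    (hirr : ∀ U : Submodule (ZMod 2) V, (∀ k, ∀ u ∈ U, ρ k u ∈ U) → U = ⊥ ∨ U = ⊤)
    (Q : V → W) (B : V →ₗ[ZMod 2] V →ₗ[ZMod 2] W)
    (hQ : ∀ u v, Q (u + v) = Q u + Q v + B u v) (haniso : ∀ v, Q v = 0 → v = 0)
    (hinv : ∀ k v, Q (ρ k v) = Q v) : False := by
  set W0 := Submodule.span (ZMod 2) (Set.range Q) with hW0
  have hmem : ∀ v, Q v ∈ W0 := fun v => Submodule.subset_span ⟨v, rfl⟩
  have hB : ∀ u v, B u v ∈ W0 := fun u v => by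
    rw [show B u v = Q (u + v) - Q u - Q v by rw [hQ]; abel]
    exact sub_mem (sub_mem (hmem _) (hmem _)) (hmem _)
  let B0 : V →ₗ[ZMod 2] V →ₗ[ZMod 2] W0 :=
    { toFun := fun u => (B u).codRestrict W0 (hB u)
      map_add' := fun a b => LinearMap.ext fun v => Subtype.ext (by simp)
      map_smul' := fun c a => LinearMap.ext fun v => Subtype.ext (by simp) }
  refine false_of_aniso_span hFT hperf ρ hne hirr (fun v => (⟨Q v, hmem v⟩ : W0)) B0
    (fun u v => Subtype.ext (hQ u v)) (fun v h => haniso v (congrArg Subtype.val h))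
    (fun k v => Subtype.ext (hinv k v)) (Submodule.map_injective_of_injective W0.subtype_injective ?_)
  rw [Submodule.map_span, Submodule.map_subtype_top, ← Set.range_comp]
  rfl

end Cfsg.Agent.OutSolvable
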