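import Cfsg.Agent.Lib.OutSolvable.AnisoMap
import Cfsg.Agent.Lib.ThreeInvol.Reduce

/-!
# Automorphisms of a 2-group fixing all involutions

`isSolvable_fixInvolutions`: if the involutions of a 2-group `T` commute pairwise, a group of
automorphisms of `T` fixing all of them is solvable.
-/

set_option autoImplicit false
set_option linter.style.haveILetI false

namespace Cfsg.Agent.OutSolvable

open scoped IsMulCommutative commutatorElement

universe u

/-- Restriction of an action to an invariant subgroup. -/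
def restrictHom {K D : Type*} [Group K] [Group D] (f : K →* MulAut D) (U : Subgroup D)
    (hU : ∀ k, ∀ u ∈ U, f k u ∈ U) : K →* MulAut U where
  toFun k :=
    { toFun := fun u => ⟨f k u, hU k u u.2⟩
      invFun := fun u => ⟨f k⁻¹ u, hU k⁻¹ u u.2⟩
      left_inv := fun u => Subtype.ext (by simp)
      right_inv := fun u => Subtype.ext (by simp)
      map_mul' := fun a b => Subtype.ext (map_mul (f k) a.1 b.1) }
  map_one' := MulEquiv.ext fun u => Subtype.ext (by simp)
  map_mul' := fun a b => MulEquiv.ext fun u => Subtype.ext (by simp)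

@[simp] theorem restrictHom_apply {K D : Type*} [Group K] [Group D] (f : K →* MulAut D) (U : Subgroup D)
    (hU : ∀ k, ∀ u ∈ U, f k u ∈ U) (k : K) (u : U) : (restrictHom f U hU k u : D) = f k u := rfl

variable {K : Type u} [Group K] [Finite K]

/-- A perfect group fixing all involutions of a 2-group in which they are central acts trivially. -/
theorem fixed_of_involutions_central (hFT : FTConsumers.OddOrder.{u}) (hperf : _root_.commutator K = ⊤) :
    ∀ (n : ℕ) (D : Type u) [Group D] [Finite D], Nat.card D = n → IsPGroup 2 D →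
      (∀ x : D, x * x = 1 → x ∈ Subgroup.center D) → ∀ (f : K →* MulAut D),
      (∀ k x, x * x = 1 → f k x = x) → ∀ k d, f k d = d := by
  intro n
  induction n using Nat.strong_induction_on with
  | _ n ih =>
  intro D _ _ hn hD hc f hfix
  haveI : Fact (Nat.Prime 2) := ⟨Nat.prime_two⟩
  let Z0 : Subgroup D :=
    { carrier := {d | ∀ k, f k d = d}
      one_mem' := fun k => map_one _
      mul_mem' := fun {a b} ha hb k => by rw [map_mul, ha k, hb k]
      inv_mem' := fun {a} ha k => by rw [map_inv, ha k] }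
  have hZ : ∀ d, d ∈ Z0 ↔ ∀ k, f k d = d := fun d => Iff.rfl
  suffices htop : Z0 = ⊤ by
    intro k d
    exact (hZ d).1 (htop ▸ Subgroup.mem_top d) k
  by_contra htop
  have hprop : ∀ U : Subgroup D, (∀ k, ∀ u ∈ U, f k u ∈ U) → U ≠ ⊤ → U ≤ Z0 := by
    intro U hU hne u hu k
    have hlt : Nat.card U < n := hn ▸ lt_of_le_of_ne
      (Subgroup.card_le_card_group U) fun e => hne (Subgroup.eq_top_of_card_eq U e)
    exact congrArg Subtype.val (ih _ hlt U rfl (hD.to_subgroup U)
      (fun x hx => Subgroup.mem_center_iff.2 fun y => Subtype.ext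
        (Subgroup.mem_center_iff.1 (hc x (congrArg Subtype.val hx)) y))
      (restrictHom f U hU)
      (fun k x hx => Subtype.ext (hfix k x (congrArg Subtype.val hx))) k ⟨u, hu⟩)
  have hfr : frattini D ≤ Z0 := by
    refine hprop _ (fun k u hu => ?_) fun h => ?_
    · have := (Subgroup.characteristic_iff_comap_eq.1 (inferInstance : (frattini D).Characteristic) (f k))
      exact (this.ge hu :)
    · have h1 : Subgroup.closure (∅ : Set D) ⊔ frattini D = ⊤ := by rw [h, sup_top_eq]
      have h2 := PGroup.closure_eq_top_of_sup_frattini h1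
      rw [Subgroup.closure_empty] at h2
      exact htop (top_unique (h2 ▸ bot_le))
  have hcm : _root_.commutator D ≤ Z0 := (PGroup.commutator_le_frattini hD).trans hfr
  haveI hZn : Z0.Normal := Subgroup.Normal.of_commutator_le D hcm
  have hmove : ∀ k d, d⁻¹ * f k d ∈ Subgroup.centralizer (Z0 : Set D) := by
    intro k d z hz
    have h1 := (hZ _).1 (hZn.conj_mem z hz d) k
    rw [map_mul, map_mul, map_inv, (hZ z).1 hz k] at h1
    calc z * (d⁻¹ * f k d) = d⁻¹ * (d * z * d⁻¹) * f k d := by group
      _ = d⁻¹ * (f k d * z * (f k d)⁻¹) * f k d := by rw [h1]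
      _ = d⁻¹ * f k d * z := by group
  have hfixall : (∀ k d, d⁻¹ * f k d ∈ Z0) → False := by
    intro h
    refine htop (top_unique fun d _ k => ?_)
    let M : Subgroup D := Z0 ⊓ Subgroup.centralizer (Z0 : Set D)
    have hM : ∀ a b : M, a * b = b * a := fun a b => Subtype.ext (b.2.2 a.1 a.2.1)
    let c : K →* M :=
      { toFun := fun k => ⟨d⁻¹ * f k d, h k d, hmove k d⟩
        map_one' := Subtype.ext (by simp)
        map_mul' := fun a b => Subtype.ext (by
          show d⁻¹ * f (a * b) d = d⁻¹ * f a d * (d⁻¹ * f b d)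
          calc d⁻¹ * f (a * b) d = d⁻¹ * f a (d * (d⁻¹ * f b d)) := by
                rw [map_mul, MulAut.mul_apply, mul_inv_cancel_left]
            _ = _ := by rw [map_mul, (hZ _).1 (h b d) a, mul_assoc]) }
    have h1 : d⁻¹ * f k d = 1 :=
      congrArg Subtype.val (eq_one_of_commute hperf c (fun a b => hM _ _) k)
    exact (inv_mul_eq_one.1 h1).symm
  have hcenter : ∀ z ∈ Z0, z ∈ Subgroup.center D := by
    by_contra hne
    refine hfixall fun k d => hprop (Subgroup.centralizer (Z0 : Set D)) (fun k u hu z hz => ?_) (fun h => hne fun z hz =>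
      Subgroup.mem_center_iff.2 fun g => (show g ∈ Subgroup.centralizer (Z0 : Set D) from h ▸ Subgroup.mem_top g) z hz |>.symm)
      (hmove k d)
    have h1 := congrArg (f k) (hu z hz)
    rwa [map_mul, map_mul, (hZ z).1 hz k] at h1
  have hsq : ∀ d : D, d * d ∈ Z0 := fun d => hfr (by simpa [pow_two] using PGroup.pow_mem_frattini hD d)
  have hsqc : ∀ d : D, d * d ∈ Subgroup.center D := fun d => hcenter _ (hsq d)
  -- the modules
  haveI : IsMulCommutative ↥Z0 :=
    ⟨⟨fun a b => Subtype.ext (Subgroup.mem_center_iff.1 (hcenter _ b.2) a.1)⟩⟩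
  let sq : ↥Z0 →* ↥Z0 := powMonoidHom 2
  letI : CommGroup (D ⧸ Z0) :=
    { (inferInstance : Group (D ⧸ Z0)) with
      mul_comm := fun a b => by
        induction a using QuotientGroup.induction_on with
        | H a =>
        induction b using QuotientGroup.induction_on with
        | H b =>
        rw [← QuotientGroup.mk_mul, ← QuotientGroup.mk_mul, QuotientGroup.eq]
        have : ⁅b⁻¹, a⁻¹⁆ ∈ Z0 := hcm (Subgroup.commutator_mem_commutator (Subgroup.mem_top _) (Subgroup.mem_top _))
        simpa [commutatorElement_def, mul_assoc] using this }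
  letI : Module (ZMod 2) (Additive (D ⧸ Z0)) := AddCommGroup.zmodModule fun x => by
    induction x using Additive.rec with
    | ofMul x =>
      induction x using QuotientGroup.induction_on with
      | H d =>
        rw [two_nsmul, ← ofMul_mul, ← QuotientGroup.mk_mul]
        exact congrArg Additive.ofMul ((QuotientGroup.eq_one_iff _).2 (hsq d))
  letI : Module (ZMod 2) (Additive (↥Z0 ⧸ sq.range)) := AddCommGroup.zmodModule fun x => by
    induction x using Additive.rec with
    | ofMul x =>
      induction x using QuotientGroup.induction_on with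
      | H d =>
        rw [two_nsmul, ← ofMul_mul, ← QuotientGroup.mk_mul]
        exact congrArg Additive.ofMul ((QuotientGroup.eq_one_iff _).2 ⟨d, by simp [sq, pow_two]⟩)
  let W := Additive (↥Z0 ⧸ sq.range)
  let cls : ∀ d : D, d ∈ Z0 → W := fun d hd => Additive.ofMul (QuotientGroup.mk (⟨d, hd⟩ : ↥Z0))
  have hcls : ∀ a b : D, ∀ ha : a ∈ Z0, ∀ hb : b ∈ Z0,
      cls (a * b) (mul_mem ha hb) = cls a ha + cls b hb := fun a b ha hb => rfl
  have hcmem : ∀ a b : D, ⁅a, b⁆ ∈ Z0 := fun a b =>
    hcm (Subgroup.commutator_mem_commutator (Subgroup.mem_top _) (Subgroup.mem_top _))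
  have hmul : ∀ a b : D, cls (a * b * (a * b)) (hsq _) =
      cls (a * a) (hsq a) + cls (b * b) (hsq b) + cls ⁅b, a⁆ (hcmem b a) := by
    intro a b
    rw [add_comm, ← hcls _ _ (hsq a) (hsq b), ← hcls _ _ (hcmem b a)]
    congr 1
    exact ThreeInvol.sq_mul_of_central hsqc a b
  have hwd : ∀ a b : D, a⁻¹ * b ∈ Z0 → cls (a * a) (hsq a) = cls (b * b) (hsq b) := by
    intro a b hz
    refine congrArg Additive.ofMul (QuotientGroup.eq.2 ⟨⟨_, hz⟩, Subtype.ext ?_⟩)
    show (a⁻¹ * b) ^ 2 = (a * a)⁻¹ * (b * b)
    calc (a⁻¹ * b) ^ 2 = a⁻¹ * b * (a⁻¹ * b) := pow_two _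
      _ = a⁻¹ * ((a⁻¹ * b) * b) := by rw [← Subgroup.mem_center_iff.1 (hcenter _ hz) b]; group
      _ = _ := by group
  let Q : Additive (D ⧸ Z0) → W := fun v =>
    Quotient.liftOn' v.toMul (fun d => cls (d * d) (hsq d)) fun a b e =>
      hwd a b (QuotientGroup.leftRel_apply.1 e)
  let Bf : Additive (D ⧸ Z0) → Additive (D ⧸ Z0) → W := fun u v => Q (u + v) - Q u - Q v
  have hBf : ∀ a b : D, Bf (Additive.ofMul (a : D ⧸ Z0)) (Additive.ofMul (b : D ⧸ Z0)) =
      cls ⁅b, a⁆ (hcmem b a) := by
    intro a b
    show cls (a * b * (a * b)) (hsq _) - cls (a * a) (hsq a) - cls (b * b) (hsq b) = _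
    rw [hmul]; abel
  have hBadd1 : ∀ a b c, Bf (a + b) c = Bf a c + Bf b c := by
    intro a b c
    induction a using Additive.rec with | ofMul a => ?_
    induction b using Additive.rec with | ofMul b => ?_
    induction c using Additive.rec with | ofMul c => ?_
    induction a using QuotientGroup.induction_on with | H a => ?_
    induction b using QuotientGroup.induction_on with | H b => ?_
    induction c using QuotientGroup.induction_on with | H c => ?_
    rw [← ofMul_mul, ← QuotientGroup.mk_mul, hBf, hBf, hBf, ← hcls]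
    congr 1
    calc ⁅c, a * b⁆ = ⁅c, a⁆ * (a * ⁅c, b⁆ * a⁻¹) := by simp [commutatorElement_def, mul_assoc]
      _ = _ := by rw [Subgroup.mem_center_iff.1 (hcenter _ (hcmem c b)) a, mul_inv_cancel_right]
  have hBsymm : ∀ a b, Bf a b = Bf b a := fun a b => by
    show Q (a + b) - Q a - Q b = Q (b + a) - Q b - Q a
    rw [add_comm b a]; abel
  let B : Additive (D ⧸ Z0) →ₗ[ZMod 2] Additive (D ⧸ Z0) →ₗ[ZMod 2] W :=
    (AddMonoidHom.mk' (fun u => (AddMonoidHom.mk' (Bf u) fun x y => by
        rw [hBsymm, hBadd1, hBsymm x, hBsymm y]).toZModLinearMap 2)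
      fun x y => LinearMap.ext fun z => hBadd1 x y z).toZModLinearMap 2
  have hinvZ : ∀ k, ∀ z ∈ Z0, f k z ∈ Z0 := fun k z hz => by rw [(hZ z).1 hz k]; exact hz
  let act : K → (Additive (D ⧸ Z0) →ₗ[ZMod 2] Additive (D ⧸ Z0)) := fun k =>
    (MonoidHom.toAdditive (QuotientGroup.map Z0 Z0 (f k).toMonoidHom (fun z hz => hinvZ k z hz))).toZModLinearMap 2
  have hact : ∀ k (d : D), act k (Additive.ofMul (d : D ⧸ Z0)) = Additive.ofMul ((f k d : D) : D ⧸ Z0) :=
    fun k d => rfl
  have hext : ∀ {g g' : Additive (D ⧸ Z0) →ₗ[ZMod 2] Additive (D ⧸ Z0)},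
      (∀ d : D, g (Additive.ofMul (d : D ⧸ Z0)) = g' (Additive.ofMul (d : D ⧸ Z0))) → g = g' := by
    intro g g' h
    refine LinearMap.ext fun v => ?_
    induction v using Additive.rec with | ofMul v => ?_
    induction v using QuotientGroup.induction_on with | H d => ?_
    exact h d
  let ρ : K →* Module.End (ZMod 2) (Additive (D ⧸ Z0)) :=
    { toFun := act
      map_one' := hext fun d => by rw [hact, map_one]; rfl
      map_mul' := fun a b => hext fun d => by
        rw [Module.End.mul_apply, hact, hact, hact, map_mul]; rfl }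
  refine false_of_aniso hFT hperf ρ ?_ ?_ Q B (fun u v => ?_) (fun v hv => ?_) (fun k v => ?_)
  · by_contra hne
    push Not at hne
    refine hfixall fun k d => ?_
    have h1 : Additive.ofMul ((f k d : D) : D ⧸ Z0) = Additive.ofMul (d : D ⧸ Z0) :=
      LinearMap.congr_fun (hne k) (Additive.ofMul (d : D ⧸ Z0))
    exact QuotientGroup.eq.1 (Additive.ofMul.injective h1).symm
  · intro U hU
    let P : Subgroup D := (AddSubgroup.toSubgroup' U.toAddSubgroup).comap (QuotientGroup.mk' Z0)
    have hP : ∀ d : D, d ∈ P ↔ Additive.ofMul (d : D ⧸ Z0) ∈ U := fun d => Iff.rfl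
    by_cases hPt : P = ⊤
    · refine Or.inr (top_unique fun v _ => ?_)
      induction v using Additive.rec with | ofMul v => ?_
      induction v using QuotientGroup.induction_on with | H d => ?_
      exact (hP d).1 (hPt ▸ Subgroup.mem_top d)
    · have hle := hprop P (fun k u hu => (hP _).2 (hact k u ▸ hU k _ ((hP u).1 hu))) hPt
      refine Or.inl ((Submodule.eq_bot_iff _).2 fun v hv => ?_)
      induction v using Additive.rec with | ofMul v => ?_
      induction v using QuotientGroup.induction_on with | H d => ?_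
      exact congrArg Additive.ofMul ((QuotientGroup.eq_one_iff d).2 (hle ((hP d).2 hv)))
  · show Q (u + v) = Q u + Q v + (Q (u + v) - Q u - Q v)
    abel
  · induction v using Additive.rec with | ofMul v => ?_
    induction v using QuotientGroup.induction_on with | H d => ?_
    obtain ⟨z, hz⟩ := (QuotientGroup.eq_one_iff _).1 (Additive.ofMul.injective hv)
    have hz' : (z : D) * z = d * d := by
      have := congrArg Subtype.val hz
      simpa [sq, pow_two] using this
    have h1 : d * (z : D)⁻¹ * (d * (z : D)⁻¹) = 1 := by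
      calc d * (z : D)⁻¹ * (d * (z : D)⁻¹) = d * ((z : D)⁻¹ * d) * (z : D)⁻¹ := by group
        _ = d * d * ((z : D) * z)⁻¹ := by
          rw [← Subgroup.mem_center_iff.1 (inv_mem (hcenter _ z.2)) d]; group
        _ = 1 := by rw [hz', mul_inv_cancel]
    have h2 : d * (z : D)⁻¹ ∈ Z0 := fun k => hfix k _ h1
    exact congrArg Additive.ofMul ((QuotientGroup.eq_one_iff d).2 (by simpa using mul_mem h2 z.2))
  · induction v using Additive.rec with | ofMul v => ?_
    induction v using QuotientGroup.induction_on with | H d => ?_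
    show cls (f k d * f k d) (hsq _) = cls (d * d) (hsq d)
    congr 1
    rw [← map_mul]
    exact (hZ _).1 (hsq d) k

/-- Automorphisms fixing all involutions, which commute pairwise, form a solvable group. -/
theorem isSolvable_fixInvolutions (hFT : FTConsumers.OddOrder.{u}) {T : Type u} [Group T] [Finite T]
    (hT : IsPGroup 2 T) (hcomm : ∀ x y : T, x * x = 1 → y * y = 1 → x * y = y * x)
    (A : Subgroup (MulAut T)) (hA : ∀ φ ∈ A, ∀ x : T, x * x = 1 → φ x = x) : Group.IsSolvable A := by
  haveI : Fact (Nat.Prime 2) := ⟨Nat.prime_two⟩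
  refine isSolvable_of_forall_perfect fun K hK => ?_
  set f : ↥K →* MulAut T := A.subtype.comp K.subtype with hf
  set E : Set T := {x : T | x * x = 1} with hE
  set D : Subgroup T := Subgroup.centralizer E with hD
  haveI : D.Normal := ⟨fun d hd g x hx => by
    have hx' : g⁻¹ * x * g ∈ E := by
      show g⁻¹ * x * g * (g⁻¹ * x * g) = 1
      calc _ = g⁻¹ * (x * x) * g := by group
        _ = 1 := by rw [show x * x = 1 from hx]; group
    calc x * (g * d * g⁻¹) = g * (g⁻¹ * x * g * d) * g⁻¹ := by group
      _ = g * (d * (g⁻¹ * x * g)) * g⁻¹ := by rw [hd _ hx']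
      _ = g * d * g⁻¹ * x := by group⟩
  have hfixE : ∀ (k : ↥K) x, x * x = 1 → f k x = x := fun k x hx => hA _ (K.subtype k).2 x hx
  have hinvD : ∀ k, ∀ d ∈ D, f k d ∈ D := fun k d hd x hx => by
    rw [← hfixE k x hx, ← map_mul, ← map_mul, hd x hx]
  have hDfix : ∀ k, ∀ d ∈ D, f k d = d := fun k d hd =>
    congrArg Subtype.val (fixed_of_involutions_central hFT hK _ D rfl (hT.to_subgroup D)
      (fun x hx => Subgroup.mem_center_iff.2 fun y =>
        Subtype.ext (y.2 x.1 (congrArg Subtype.val hx)).symm)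
      (restrictHom f D hinvD) (fun k x hx => Subtype.ext (hfixE k x (congrArg Subtype.val hx))) k ⟨d, hd⟩)
  have hC : Subgroup.centralizer (D : Set T) ≤ D := fun c hc x hx =>
    hc x (fun y hy => hcomm y x hy hx)
  haveI : Group.IsSolvable f.range := ThreeInvol.solvable_of_odd_trivial fun m hm => by
    obtain ⟨_, k, rfl⟩ := m
    refine Subtype.ext (PGroup.aut_eq_one_of_centralizer_le hT D hC (f k)
      (Nat.coprime_two_right.2 ?_) (hDfix k))
    rwa [← Subgroup.orderOf_coe] at hm
  rw [eq_bot_iff]
  intro k hk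
  have h1 := congrArg Subtype.val (eq_one_of_solvable hK f.rangeRestrict ⟨k, hk⟩)
  exact Subgroup.mem_bot.2 (Subtype.ext h1)

end Cfsg.Agent.OutSolvable
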